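import Groth.Agent.QuadSchemeLib.Orth
import Groth.Agent.CliffRegLib.OddInner
import Groth.Agent.QuadGrpLib.Generic

/-!
# Clifford group schemes in coordinates
-/

set_option autoImplicit false
set_option backward.isDefEq.respectTransparency false

universe u

open CategoryTheory AlgebraicGeometry TensorProduct
open CliffordAlgebra (ι)
open Groth.Agent.CliffRegLib

namespace Groth.Agent.QuadSchemeLib

variable {n : ℕ} {R : Type u} [CommRing R] (Q : QuadraticForm R (Fin n → R))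

/-- The Clifford algebra of the base change. -/
abbrev CQ (A : Type u) [CommRing A] [Algebra R A] : Type u := CliffordAlgebra (QuadGrp.baseChangeForm A Q)

section Bc

variable {A A' : Type u} [CommRing A] [Algebra R A] [CommRing A'] [Algebra R A'] (φ : A →ₐ[R] A')

/-- Functoriality in the algebra of coefficients. -/
noncomputable def bc : CQ Q A →+* CQ Q A' :=
  letI : Algebra A A' := φ.toRingHom.toAlgebra
  (cmap (Q := QuadGrp.baseChangeForm A Q) (Q' := QuadGrp.baseChangeForm A' Q)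
    ({ toFun := QuadGrpLib.chg φ, map_add' := map_add _,
       map_smul' := fun a z => (QuadGrpLib.chg_smul φ a z).trans (algebraMap_smul A' a _) } :
      (A ⊗[R] (Fin n → R)) →ₗ[A] (A' ⊗[R] (Fin n → R)))
    (fun v => QuadGrpLib.baseChangeForm_chg φ Q v)).toRingHom

@[simp] lemma bc_ι (v : A ⊗[R] (Fin n → R)) :
    bc Q φ (ι (QuadGrp.baseChangeForm A Q) v) = ι _ (LinearMap.rTensor (Fin n → R) φ.toLinearMap v) :=
  letI : Algebra A A' := φ.toRingHom.toAlgebra
  cmap_ι _ _ v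

lemma bc_algebraMap (a : A) : bc Q φ (algebraMap A _ a) = algebraMap A' _ (φ a) := by
  letI : Algebra A A' := φ.toRingHom.toAlgebra
  exact (AlgHom.commutes _ a).trans (IsScalarTower.algebraMap_apply A A' (CQ Q A') a)

lemma bc_smul (a : A) (x : CQ Q A) : bc Q φ (a • x) = φ a • bc Q φ x := by
  rw [Algebra.smul_def, map_mul, bc_algebraMap, ← Algebra.smul_def]

lemma rTensor_basis (i : Fin n) :
    LinearMap.rTensor (Fin n → R) φ.toLinearMap (bA A i) = bA A' i := by
  rw [Module.Basis.baseChange_apply, Module.Basis.baseChange_apply, LinearMap.rTensor_tmul,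
    AlgHom.toLinearMap_apply, map_one]

lemma bc_repr (x : CQ Q A) (s : Finset (Fin n)) :
    (cbasis (bA A') _).repr (bc Q φ x) s = φ ((cbasis (bA A) _).repr x s) := by
  letI : Algebra A A' := φ.toRingHom.toAlgebra
  exact cmap_repr _ _ (bA A) (bA A') (fun i => rTensor_basis φ i) x s

lemma bc_mem_evenOdd (i : ZMod 2) {x : CQ Q A} (hx : x ∈ CliffordAlgebra.evenOdd _ i) :
    bc Q φ x ∈ CliffordAlgebra.evenOdd (QuadGrp.baseChangeForm A' Q) i := by
  letI : Algebra A A' := φ.toRingHom.toAlgebra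
  exact cmap_mem_evenOdd _ _ i hx

lemma bc_p0 (x : CQ Q A) :
    (p0 _ (bc Q φ x) : CQ Q A') = bc Q φ (p0 _ x : CQ Q A) := by
  letI : Algebra A A' := φ.toRingHom.toAlgebra
  exact p0_cmap _ _ x

lemma bc_star (x : CQ Q A) : bc Q φ (star x) = star (bc Q φ x) := by
  induction x using CliffordAlgebra.induction with
  | algebraMap r =>
    rw [CliffordAlgebra.star_algebraMap, bc_algebraMap, CliffordAlgebra.star_algebraMap]
  | ι v => rw [CliffordAlgebra.star_ι, map_neg, bc_ι, CliffordAlgebra.star_ι]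
  | mul p q hp hq => rw [star_mul, map_mul, map_mul, hp, hq, star_mul]
  | add p q hp hq => rw [star_add, map_add, map_add, hp, hq, star_add]

lemma bc_surjective (hφ : Function.Surjective φ) : Function.Surjective (bc Q φ) := fun y => by
  choose f hf using fun s => hφ ((cbasis (bA A') _).repr y s)
  refine ⟨(cbasis (bA A) _).equivFun.symm f, (cbasis (bA A') _).ext_elem fun s => ?_⟩
  rw [bc_repr, ← hf]
  congr 1
  exact congrFun ((cbasis (bA A) (QuadGrp.baseChangeForm A Q)).equivFun.apply_symm_apply f) s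

end Bc

section Sq

variable {A : Type u} [CommRing A] [Algebra R A] {I : Ideal A}

/-- Elements killed by reduction modulo a square-zero ideal multiply to zero. -/
lemma mul_eq_zero_of_bc (hI : I ^ 2 = ⊥) {x y : CQ Q A}
    (hx : bc Q (Ideal.Quotient.mkₐ R I) x = 0) (hy : bc Q (Ideal.Quotient.mkₐ R I) y = 0) : x * y = 0 := by
  have h : ∀ z : CQ Q A, bc Q (Ideal.Quotient.mkₐ R I) z = 0 → ∀ s, (cbasis (bA A) _).repr z s ∈ I :=
    fun z hz s => Ideal.Quotient.eq_zero_iff_mem.1 (by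
      have h1 := bc_repr Q (Ideal.Quotient.mkₐ R I) z s
      rw [hz, map_zero, Finsupp.zero_apply] at h1
      exact h1.symm)
  rw [← (cbasis (bA A) (QuadGrp.baseChangeForm A Q)).sum_repr x,
    ← (cbasis (bA A) (QuadGrp.baseChangeForm A Q)).sum_repr y, Finset.sum_mul]
  refine Finset.sum_eq_zero fun s _ => ?_
  rw [Finset.mul_sum]
  refine Finset.sum_eq_zero fun t _ => ?_
  rw [smul_mul_smul_comm, mul_eq_zero_of_mem hI (h x hx s) (h y hy t), zero_smul]

lemma isUnit_of_bc (hI : I ^ 2 = ⊥) {x : CQ Q A} (hx : IsUnit (bc Q (Ideal.Quotient.mkₐ R I) x)) :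
    IsUnit x := by
  obtain ⟨u, hu⟩ := hx
  obtain ⟨z, hz⟩ := bc_surjective Q (Ideal.Quotient.mkₐ R I) Ideal.Quotient.mk_surjective (↑u⁻¹ : CQ Q (A ⧸ I))
  have aux : ∀ w : CQ Q A, bc Q (Ideal.Quotient.mkₐ R I) w = 1 → IsUnit w := fun w hw => by
    have h0 : bc Q (Ideal.Quotient.mkₐ R I) (w - 1) = 0 := by rw [map_sub, hw, map_one, sub_self]
    have hn : IsNilpotent (w - 1) := ⟨2, by rw [pow_two]; exact mul_eq_zero_of_bc Q hI h0 h0⟩
    have := hn.isUnit_one_add
    rwa [add_sub_cancel] at this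
  obtain ⟨a, ha⟩ := aux (x * z) (by rw [map_mul, hz, ← hu, Units.mul_inv])
  obtain ⟨b, hb⟩ := aux (z * x) (by rw [map_mul, hz, ← hu, Units.inv_mul])
  refine isUnit_iff_exists.2 ⟨z * ↑a⁻¹, by rw [← mul_assoc, ← ha, Units.mul_inv], ?_⟩
  have h1 : x * (z * ↑a⁻¹) = 1 := by rw [← mul_assoc, ← ha, Units.mul_inv]
  have h2 : (↑b⁻¹ * z) * x = 1 := by rw [mul_assoc, ← hb, Units.inv_mul]
  rw [← left_inv_eq_right_inv h2 h1]
  exact h2

end Sq

section Parity

variable {A : Type u} [CommRing A] [Algebra R A]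

lemma mem_evenOdd_iff (x : CQ Q A) (i : ZMod 2) :
    x ∈ CliffordAlgebra.evenOdd (QuadGrp.baseChangeForm A Q) i ↔
      ∀ s : Finset (Fin n), (s.card : ZMod 2) ≠ i → (cbasis (bA A) _).repr x s = 0 := by
  classical
  constructor
  · intro hx s hs
    set B := cbasis (bA (R := R) A) (QuadGrp.baseChangeForm A Q)
    set xi := ∑ t ∈ Finset.univ.filter (fun t : Finset (Fin n) => (t.card : ZMod 2) = i), B.repr x t • B t with hxi
    set xo := ∑ t ∈ Finset.univ.filter (fun t : Finset (Fin n) => ¬(t.card : ZMod 2) = i), B.repr x t • B t with hxo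
    have hsum : xi + xo = x := by rw [hxi, hxo, Finset.sum_filter_add_sum_filter_not, B.sum_repr]
    have h1 : xi ∈ CliffordAlgebra.evenOdd (QuadGrp.baseChangeForm A Q) i := Submodule.sum_mem _ fun t ht =>
      Submodule.smul_mem _ _ ((Finset.mem_filter.1 ht).2 ▸ cbasis_mem_evenOdd (bA A) _ t)
    have h2 : xo ∈ CliffordAlgebra.evenOdd (QuadGrp.baseChangeForm A Q) (i + 1) := by
      refine Submodule.sum_mem _ fun t ht => Submodule.smul_mem _ _ ?_
      have hc : (t.card : ZMod 2) = i + 1 := by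
        exact (by decide : ∀ c i : ZMod 2, c ≠ i → c = i + 1) _ _ (Finset.mem_filter.1 ht).2
      exact hc ▸ cbasis_mem_evenOdd (bA A) _ t
    have h3 : xo ∈ CliffordAlgebra.evenOdd (QuadGrp.baseChangeForm A Q) i := by
      have := Submodule.sub_mem _ hx h1
      rwa [← hsum, add_sub_cancel_left] at this
    have h4 : xo = 0 := by
      refine Submodule.disjoint_def.1 ?_ xo h3 h2
      exact (DirectSum.IsInternal.submodule_iSupIndep
        (DirectSum.Decomposition.isInternal (CliffordAlgebra.evenOdd (QuadGrp.baseChangeForm A Q)))).pairwiseDisjoint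
        ((by decide : ∀ i : ZMod 2, i ≠ i + 1) i)
    rw [← hsum, h4, add_zero, hxi]
    simp only [map_sum, map_smul, Module.Basis.repr_self, Finsupp.coe_finsetSum, Finset.sum_apply,
      Finsupp.smul_apply]
    refine Finset.sum_eq_zero fun t ht => ?_
    rw [Finsupp.single_eq_of_ne, smul_zero]
    rintro rfl
    exact hs (Finset.mem_filter.1 ht).2
  · intro h
    rw [← (cbasis (bA A) (QuadGrp.baseChangeForm A Q)).sum_repr x]
    refine Submodule.sum_mem _ fun t _ => ?_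
    by_cases ht : (t.card : ZMod 2) = i
    · exact Submodule.smul_mem _ _ (ht ▸ cbasis_mem_evenOdd (bA A) _ t)
    · rw [h t ht, zero_smul]
      exact Submodule.zero_mem _

lemma mem_range_ι_iff (x : CQ Q A) :
    x ∈ LinearMap.range (ι (QuadGrp.baseChangeForm A Q)) ↔
      ∀ s : Finset (Fin n), s.card ≠ 1 → (cbasis (bA A) _).repr x s = 0 := by
  classical
  constructor
  · rintro ⟨v, rfl⟩ s hs
    rw [← (bA (R := R) A).sum_repr v]
    simp only [map_sum, map_smul, ← cbasis_singleton (bA A), Module.Basis.repr_self, Finsupp.coe_finsetSum,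
      Finset.sum_apply, Finsupp.smul_apply]
    refine Finset.sum_eq_zero fun t _ => ?_
    rw [Finsupp.single_eq_of_ne, smul_zero]
    rintro rfl
    exact hs (Finset.card_singleton t)
  · intro h
    rw [← (cbasis (bA A) (QuadGrp.baseChangeForm A Q)).sum_repr x]
    refine Submodule.sum_mem _ fun t _ => ?_
    by_cases ht : t.card = 1
    · obtain ⟨i, rfl⟩ := Finset.card_eq_one.1 ht
      exact Submodule.smul_mem _ _ (by rw [cbasis_singleton]; exact LinearMap.mem_range_self _ _)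
    · rw [h t ht, zero_smul]
      exact Submodule.zero_mem _

lemma mem_GPin'_iff (u : (CQ Q A)ˣ) :
    u ∈ QuadGrp.GPin' (QuadGrp.baseChangeForm A Q) ↔ ∀ i,
      (u : CQ Q A) * ι (QuadGrp.baseChangeForm A Q) (bA A i) * ↑u⁻¹ ∈ LinearMap.range (ι (QuadGrp.baseChangeForm A Q)) ∧
      (↑u⁻¹ : CQ Q A) * ι (QuadGrp.baseChangeForm A Q) (bA A i) * u ∈ LinearMap.range (ι (QuadGrp.baseChangeForm A Q)) := by
  constructor
  · intro hu i
    obtain ⟨g, -, hv, -⟩ := exists_conj_isometry (bA A) hu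
    refine ⟨⟨g (bA A i), (hv _).symm⟩, ⟨g.symm (bA A i), ?_⟩⟩
    conv_rhs => rw [← g.apply_symm_apply (bA A i), ← hv]
    simp [mul_assoc]
  · intro h
    have key : ∀ w : (CQ Q A)ˣ, (∀ i, (w : CQ Q A) * ι (QuadGrp.baseChangeForm A Q) (bA A i) * ↑w⁻¹ ∈
        LinearMap.range (ι (QuadGrp.baseChangeForm A Q))) →
        ∀ v, (w : CQ Q A) * ι (QuadGrp.baseChangeForm A Q) v * ↑w⁻¹ ∈ LinearMap.range (ι (QuadGrp.baseChangeForm A Q)) := fun w hw v => by
      rw [← (bA (R := R) A).sum_repr v, map_sum, Finset.mul_sum, Finset.sum_mul]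
      refine Submodule.sum_mem _ fun i _ => ?_
      rw [map_smul, mul_smul_comm, smul_mul_assoc]
      exact Submodule.smul_mem _ _ (hw i)
    rw [QuadGrp.mem_GPin']
    refine le_antisymm ?_ ?_
    · rintro _ ⟨_, ⟨v, rfl⟩, rfl⟩
      exact key u (fun i => (h i).1) v
    · rintro _ ⟨v, rfl⟩
      obtain ⟨w, hw⟩ := key u⁻¹ (fun i => by simpa using (h i).2) v
      refine ⟨ι (QuadGrp.baseChangeForm A Q) w, ⟨w, rfl⟩, ?_⟩
      change (u : CQ Q A) * ι (QuadGrp.baseChangeForm A Q) w * ↑u⁻¹ = ι (QuadGrp.baseChangeForm A Q) v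
      rw [hw]
      simp [mul_assoc]

end Parity

section Model

/-- The coordinates: the unit, its inverse and the idempotent. -/
abbrev CIdx (n : ℕ) : Type := Option (Finset (Fin n) ⊕ Finset (Fin n))

/-- The element with given coordinates. -/
noncomputable def eltL {A : Type u} [CommRing A] [Algebra R A] (x : CIdx n → A) : CQ Q A :=
  (cbasis (bA A) _).equivFun.symm fun s => x (some (Sum.inl s))

/-- The candidate inverse with given coordinates. -/
noncomputable def eltR {A : Type u} [CommRing A] [Algebra R A] (x : CIdx n → A) : CQ Q A :=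
  (cbasis (bA A) _).equivFun.symm fun s => x (some (Sum.inr s))

/-- The points cut out by the equations. -/
def IsPt {A : Type u} [CommRing A] [Algebra R A] (pin : Bool) (x : CIdx n → A) : Prop :=
  eltL Q x * eltR Q x = 1 ∧ eltR Q x * eltL Q x = 1 ∧
    (∀ i, eltL Q x * ι (QuadGrp.baseChangeForm A Q) (bA A i) * eltR Q x ∈ LinearMap.range (ι (QuadGrp.baseChangeForm A Q))) ∧
    (∀ i, eltR Q x * ι (QuadGrp.baseChangeForm A Q) (bA A i) * eltL Q x ∈ LinearMap.range (ι (QuadGrp.baseChangeForm A Q))) ∧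
    x none * x none = x none ∧
    x none • eltL Q x ∈ CliffordAlgebra.evenOdd (QuadGrp.baseChangeForm A Q) 0 ∧
    (1 - x none) • eltL Q x ∈ CliffordAlgebra.evenOdd (QuadGrp.baseChangeForm A Q) 1 ∧
    (pin = true → star (eltL Q x) * eltL Q x = 1)

open Classical in
/-- The equations. -/
noncomputable def ceqns (pin : Bool) : Finset (MvPolynomial (CIdx n) R) :=
  let P := MvPolynomial (CIdx n) R
  let X : CIdx n → P := MvPolynomial.X
  let c : CQ Q P → Finset (Fin n) → P := fun y s => (cbasis (bA P) _).repr y s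
  (Finset.univ.image fun s => c (eltL Q X * eltR Q X - 1) s) ∪
  (Finset.univ.image fun s => c (eltR Q X * eltL Q X - 1) s) ∪
  ((Finset.univ.filter fun q : Fin n × Finset (Fin n) => q.2.card ≠ 1).image fun q =>
    c (eltL Q X * ι _ (bA P q.1) * eltR Q X) q.2) ∪
  ((Finset.univ.filter fun q : Fin n × Finset (Fin n) => q.2.card ≠ 1).image fun q =>
    c (eltR Q X * ι _ (bA P q.1) * eltL Q X) q.2) ∪
  {X none * X none - X none} ∪
  ((Finset.univ.filter fun s : Finset (Fin n) => (s.card : ZMod 2) ≠ 0).image fun s => c (X none • eltL Q X) s) ∪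
  ((Finset.univ.filter fun s : Finset (Fin n) => (s.card : ZMod 2) ≠ 1).image fun s =>
    c ((1 - X none) • eltL Q X) s) ∪
  (if pin then Finset.univ.image fun s => c (star (eltL Q X) * eltL Q X - 1) s else ∅)

variable {A A' : Type u} [CommRing A] [Algebra R A] [CommRing A'] [Algebra R A']

lemma eltL_repr (x : CIdx n → A) (s : Finset (Fin n)) :
    (cbasis (bA A) _).repr (eltL Q x) s = x (some (Sum.inl s)) :=
  congrFun ((cbasis (bA A) (QuadGrp.baseChangeForm A Q)).equivFun.apply_symm_apply _) s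

lemma eltR_repr (x : CIdx n → A) (s : Finset (Fin n)) :
    (cbasis (bA A) _).repr (eltR Q x) s = x (some (Sum.inr s)) :=
  congrFun ((cbasis (bA A) (QuadGrp.baseChangeForm A Q)).equivFun.apply_symm_apply _) s

lemma bc_eltL (φ : A →ₐ[R] A') (x : CIdx n → A) : bc Q φ (eltL Q x) = eltL Q (φ ∘ x) :=
  (cbasis (bA A') _).ext_elem fun s => by rw [bc_repr, eltL_repr, eltL_repr]; rfl

lemma bc_eltR (φ : A →ₐ[R] A') (x : CIdx n → A) : bc Q φ (eltR Q x) = eltR Q (φ ∘ x) :=
  (cbasis (bA A') _).ext_elem fun s => by rw [bc_repr, eltR_repr, eltR_repr]; rfl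

theorem ceqns_iff (pin : Bool) (x : CIdx n → A) :
    (∀ p ∈ ceqns Q pin, MvPolynomial.aeval x p = 0) ↔ IsPt Q pin x := by
  classical
  set φ : MvPolynomial (CIdx n) R →ₐ[R] A := MvPolynomial.aeval x with hφ
  have hX : φ ∘ (MvPolynomial.X : CIdx n → MvPolynomial (CIdx n) R) = x :=
    funext fun o => MvPolynomial.aeval_X _ _
  have h0 : φ (MvPolynomial.X none) = x none := MvPolynomial.aeval_X _ _
  have hι : ∀ i, bc Q φ (ι _ (bA (MvPolynomial (CIdx n) R) i)) = ι (QuadGrp.baseChangeForm A Q) (bA A i) := fun i => by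
    rw [bc_ι, rTensor_basis]
  have e : ∀ (y : CQ Q (MvPolynomial (CIdx n) R)) (s : Finset (Fin n)),
      φ ((cbasis (bA (MvPolynomial (CIdx n) R)) _).repr y s) = (cbasis (bA A) _).repr (bc Q φ y) s :=
    fun y s => by rw [bc_repr]
  unfold ceqns IsPt
  dsimp only
  simp only [mem_range_ι_iff, mem_evenOdd_iff]
  simp only [Finset.mem_union, Finset.mem_image, Finset.mem_univ, true_and, Finset.mem_singleton,
    Finset.mem_filter]
  constructor
  · intro h
    refine ⟨?_, ?_, fun i s hs => ?_, fun i s hs => ?_, ?_, fun s hs => ?_, fun s hs => ?_, fun hp => ?_⟩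
    · refine sub_eq_zero.1 ((cbasis (bA A) _).ext_elem fun s => ?_)
      have := h _ (Or.inl (Or.inl (Or.inl (Or.inl (Or.inl (Or.inl (Or.inl ⟨s, rfl⟩)))))))
      rw [e, map_sub, map_mul, map_one, bc_eltL, bc_eltR, hX] at this
      rw [this, map_zero, Finsupp.zero_apply]
    · refine sub_eq_zero.1 ((cbasis (bA A) _).ext_elem fun s => ?_)
      have := h _ (Or.inl (Or.inl (Or.inl (Or.inl (Or.inl (Or.inl (Or.inr ⟨s, rfl⟩)))))))
      rw [e, map_sub, map_mul, map_one, bc_eltL, bc_eltR, hX] at this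
      rw [this, map_zero, Finsupp.zero_apply]
    · have := h _ (Or.inl (Or.inl (Or.inl (Or.inl (Or.inl (Or.inr ⟨(i, s), hs, rfl⟩))))))
      rwa [e, map_mul (bc Q φ), map_mul (bc Q φ), bc_eltL, bc_eltR, hι, hX] at this
    · have := h _ (Or.inl (Or.inl (Or.inl (Or.inl (Or.inr ⟨(i, s), hs, rfl⟩)))))
      rwa [e, map_mul (bc Q φ), map_mul (bc Q φ), bc_eltL, bc_eltR, hι, hX] at this
    · have := h _ (Or.inl (Or.inl (Or.inl (Or.inr rfl))))
      rwa [map_sub, map_mul, h0, sub_eq_zero] at this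
    · have := h _ (Or.inl (Or.inl (Or.inr ⟨s, hs, rfl⟩)))
      rwa [e, bc_smul, bc_eltL, hX, h0] at this
    · have := h _ (Or.inl (Or.inr ⟨s, hs, rfl⟩))
      rwa [e, bc_smul, bc_eltL, hX, map_sub, map_one, h0] at this
    · refine sub_eq_zero.1 ((cbasis (bA A) _).ext_elem fun s => ?_)
      have := h _ (Or.inr (by rw [if_pos hp]; exact Finset.mem_image.2 ⟨s, Finset.mem_univ _, rfl⟩))
      rw [e, map_sub, map_mul, map_one, bc_star, bc_eltL, hX] at this
      rw [this, map_zero, Finsupp.zero_apply]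
  · rintro ⟨h1, h2, h3, h4, h5, h6, h7, h8⟩ p
      (((((((⟨s, rfl⟩ | ⟨s, rfl⟩) | ⟨⟨i, s⟩, hs, rfl⟩) | ⟨⟨i, s⟩, hs, rfl⟩) | rfl) | ⟨s, hs, rfl⟩) |
        ⟨s, hs, rfl⟩) | hp)
    · rw [e, map_sub, map_mul, map_one, bc_eltL, bc_eltR, hX, h1, sub_self, map_zero, Finsupp.zero_apply]
    · rw [e, map_sub, map_mul, map_one, bc_eltL, bc_eltR, hX, h2, sub_self, map_zero, Finsupp.zero_apply]
    · rw [e, map_mul (bc Q φ), map_mul (bc Q φ), bc_eltL, bc_eltR, hι, hX]; exact h3 i s hs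
    · rw [e, map_mul (bc Q φ), map_mul (bc Q φ), bc_eltL, bc_eltR, hι, hX]; exact h4 i s hs
    · rw [map_sub, map_mul, h0, h5, sub_self]
    · rw [e, bc_smul, bc_eltL, hX, h0]; exact h6 s hs
    · rw [e, bc_smul, bc_eltL, hX, map_sub, map_one, h0]; exact h7 s hs
    · cases pin
      · simp at hp
      · rw [if_pos rfl, Finset.mem_image] at hp
        obtain ⟨s, -, rfl⟩ := hp
        rw [e, map_sub, map_mul, map_one, bc_star, bc_eltL, hX, h8 rfl, sub_self, map_zero, Finsupp.zero_apply]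

/-- Membership in the subgroup cut out by the equations. -/
def IsElt (pin : Bool) (u : (CQ Q A)ˣ) : Prop :=
  u ∈ QuadGrp.GPin (QuadGrp.baseChangeForm A Q) ∧ (pin = true → star (u : CQ Q A) * u = 1)

lemma idem_unique {u : (CQ Q A)ˣ} {e f : A}
    (he0 : e • (u : CQ Q A) ∈ CliffordAlgebra.evenOdd _ 0) (he1 : (1 - e) • (u : CQ Q A) ∈ CliffordAlgebra.evenOdd _ 1)
    (hf0 : f • (u : CQ Q A) ∈ CliffordAlgebra.evenOdd _ 0) (hf1 : (1 - f) • (u : CQ Q A) ∈ CliffordAlgebra.evenOdd _ 1) :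
    e = f := by
  have key : ∀ e f : A, e • (u : CQ Q A) ∈ CliffordAlgebra.evenOdd _ 0 →
      (1 - f) • (u : CQ Q A) ∈ CliffordAlgebra.evenOdd _ 1 → e * (1 - f) = 0 := by
    intro e f h0 h1
    have hz : (e * (1 - f)) • (u : CQ Q A) = 0 := by
      have ha : (e * (1 - f)) • (u : CQ Q A) ∈ CliffordAlgebra.evenOdd _ 0 := by
        rw [mul_comm, mul_smul]; exact Submodule.smul_mem _ _ h0
      have hb : (e * (1 - f)) • (u : CQ Q A) ∈ CliffordAlgebra.evenOdd _ 1 := by
        rw [mul_smul]; exact Submodule.smul_mem _ _ h1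
      refine (cbasis (bA A) _).ext_elem fun s => ?_
      rw [map_zero, Finsupp.zero_apply]
      by_cases hs : (s.card : ZMod 2) = 0
      · exact (mem_evenOdd_iff Q _ 1).1 hb s (by rw [hs]; decide)
      · exact (mem_evenOdd_iff Q _ 0).1 ha s hs
    refine algebraMap_injective (bA A) (QuadGrp.baseChangeForm A Q) ?_
    rw [map_zero, ← mul_one (algebraMap A _ (e * (1 - f))), ← u.mul_inv, ← mul_assoc, ← Algebra.smul_def, hz,
      zero_mul]
  linear_combination key e f he0 hf1 - key f e hf0 he1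

variable {Q} {G : Over (Spec (CommRingCat.of R))} [GrpObj G]

open MonObj in
/-- The polynomial model of the Clifford group or of the Pin group. -/
theorem exists_cmodel (pin : Bool)
    (T : ∀ (A : Type u) [CommRing A] [Algebra R A], Subgroup (CQ Q A)ˣ)
    (D : QuadGrp.CliffRep Q T G)
    (hT : ∀ (A : Type u) [CommRing A] [Algebra R A] (u : (CQ Q A)ˣ), u ∈ T A ↔ IsElt Q pin u) :
    Nonempty (Model G (CIdx n) (ceqns Q pin)) := by
  classical
  have hidem : ∀ (A : Type u) [CommRing A] [Algebra R A] (y : QuadGrp.specOver R A ⟶ G),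
      ∃ e : A, IsIdempotentElem e ∧ e • ((D.pts A y).1 : CQ Q A) ∈ CliffordAlgebra.evenOdd _ 0 ∧
        (1 - e) • ((D.pts A y).1 : CQ Q A) ∈ CliffordAlgebra.evenOdd _ 1 :=
    fun A _ _ y => ((hT A _).1 (D.pts A y).2).1.2
  let crd : ∀ (A : Type u) [CommRing A] [Algebra R A], (QuadGrp.specOver R A ⟶ G) → CIdx n → A :=
    fun A _ _ y o => o.elim (hidem A y).choose
      (Sum.elim (fun s => (cbasis (bA A) _).repr ((D.pts A y).1 : CQ Q A) s)
        (fun s => (cbasis (bA A) _).repr (↑(D.pts A y).1⁻¹ : CQ Q A) s))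
  have hL : ∀ (A : Type u) [CommRing A] [Algebra R A] (y : QuadGrp.specOver R A ⟶ G),
      eltL Q (crd A y) = ((D.pts A y).1 : CQ Q A) :=
    fun A _ _ y => (cbasis (bA A) _).ext_elem fun s => eltL_repr Q _ s
  have hR : ∀ (A : Type u) [CommRing A] [Algebra R A] (y : QuadGrp.specOver R A ⟶ G),
      eltR Q (crd A y) = (↑(D.pts A y).1⁻¹ : CQ Q A) :=
    fun A _ _ y => (cbasis (bA A) _).ext_elem fun s => eltR_repr Q _ s
  refine ⟨{ crd := crd, zero := ?_, inj := ?_, surj := ?_, natural := ?_ }⟩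
  · intro A _ _ y
    obtain ⟨⟨h1, -⟩, h3⟩ := (hT A _).1 (D.pts A y).2
    have h1' := (mem_GPin'_iff Q _).1 h1
    obtain ⟨he, he0, he1⟩ := (hidem A y).choose_spec
    refine (ceqns_iff Q pin _).2 ⟨?_, ?_, ?_, ?_, he, ?_, ?_, ?_⟩
    · rw [hL, hR, Units.mul_inv]
    · rw [hL, hR, Units.inv_mul]
    · rw [hL, hR]; exact fun i => (h1' i).1
    · rw [hL, hR]; exact fun i => (h1' i).2
    · rw [hL]; exact he0
    · rw [hL]; exact he1
    · rw [hL]; exact h3
  · intro A _ _ y y' h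
    refine (D.pts A).injective (Subtype.ext (Units.ext ?_))
    rw [← hL, ← hL, h]
  · intro A _ _ x hx
    obtain ⟨h1, h2, h3, h4, h5, h6, h7, h8⟩ := (ceqns_iff Q pin x).1 hx
    obtain ⟨w, hwl, hwr⟩ : ∃ w : (CQ Q A)ˣ, (w : CQ Q A) = eltL Q x ∧ (↑w⁻¹ : CQ Q A) = eltR Q x :=
      ⟨⟨eltL Q x, eltR Q x, h1, h2⟩, rfl, rfl⟩
    have hw : w ∈ T A := by
      refine (hT A w).2 ⟨⟨(mem_GPin'_iff Q w).2 fun i => ?_, ⟨x none, h5, ?_, ?_⟩⟩, ?_⟩
      · rw [hwl, hwr]; exact ⟨h3 i, h4 i⟩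
      · rw [hwl]; exact h6
      · rw [hwl]; exact h7
      · rw [hwl]; exact h8
    refine ⟨(D.pts A).symm ⟨w, hw⟩, funext fun o => ?_⟩
    have hp : (D.pts A ((D.pts A).symm ⟨w, hw⟩)).1 = w := by rw [MulEquiv.apply_symm_apply]
    rcases o with - | s | s
    · obtain ⟨-, he0, he1⟩ := (hidem A ((D.pts A).symm ⟨w, hw⟩)).choose_spec
      refine idem_unique Q (u := (D.pts A ((D.pts A).symm ⟨w, hw⟩)).1) he0 he1 ?_ ?_
      · rw [hp, hwl]; exact h6
      · rw [hp, hwl]; exact h7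
    · change (cbasis (bA A) _).repr ((D.pts A _).1 : CQ Q A) s = _
      rw [hp, hwl, eltL_repr]
    · change (cbasis (bA A) _).repr (↑(D.pts A _).1⁻¹ : CQ Q A) s = _
      rw [hp, hwr, eltR_repr]
  · intro A A' _ _ _ _ φ y
    have hn : ((D.pts A' (QuadGrp.specOverMap R φ ≫ y)).1 : CQ Q A') = bc Q φ ((D.pts A y).1 : CQ Q A) :=
      D.natural A A' φ (bc Q φ) (fun v => bc_ι Q φ v) (fun a => bc_algebraMap Q φ a) y
    have hn' : (↑(D.pts A' (QuadGrp.specOverMap R φ ≫ y)).1⁻¹ : CQ Q A') =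
        bc Q φ (↑(D.pts A y).1⁻¹ : CQ Q A) :=
      Units.inv_eq_of_mul_eq_one_right (by rw [hn, ← map_mul, Units.mul_inv, map_one])
    funext o
    rcases o with - | s | s
    · obtain ⟨-, he0, he1⟩ := (hidem A' (QuadGrp.specOverMap R φ ≫ y)).choose_spec
      obtain ⟨-, hf0, hf1⟩ := (hidem A y).choose_spec
      refine idem_unique Q (u := (D.pts A' (QuadGrp.specOverMap R φ ≫ y)).1) he0 he1 ?_ ?_
      · rw [hn]
        change φ (hidem A y).choose • _ ∈ _
        rw [← bc_smul]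
        exact bc_mem_evenOdd Q φ 0 hf0
      · rw [hn]
        change (1 - φ (hidem A y).choose) • _ ∈ _
        rw [← map_one φ, ← map_sub, ← bc_smul]
        exact bc_mem_evenOdd Q φ 1 hf1
    · change (cbasis (bA A') _).repr _ s = φ ((cbasis (bA A) _).repr _ s)
      rw [hn, bc_repr]
    · change (cbasis (bA A') _).repr _ s = φ ((cbasis (bA A) _).repr _ s)
      rw [hn', bc_repr]

variable (Q)

/-- Lifting of points gives lifting of coordinates. -/
theorem clifts_of (pin : Bool)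
    (h : ∀ (A : Type u) [CommRing A] [Algebra R A] (I : Ideal A), I ^ 2 = ⊥ →
      ∀ ub : (CQ Q (A ⧸ I))ˣ, IsElt Q pin ub →
        ∃ u : (CQ Q A)ˣ, IsElt Q pin u ∧ bc Q (Ideal.Quotient.mkₐ R I) (u : CQ Q A) = ub) :
    Lifts (ceqns Q pin) := by
  classical
  intro A _ _ I hI x hx
  obtain ⟨h1, h2, h3, h4, h5, h6, h7, h8⟩ := (ceqns_iff Q pin x).1 hx
  obtain ⟨w, hwl, hwr⟩ : ∃ w : (CQ Q (A ⧸ I))ˣ, (w : CQ Q (A ⧸ I)) = eltL Q x ∧ (↑w⁻¹ : CQ Q (A ⧸ I)) = eltR Q x :=
    ⟨⟨eltL Q x, eltR Q x, h1, h2⟩, rfl, rfl⟩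
  obtain ⟨u, ⟨⟨hu1, e, he, he0, he1⟩, hu3⟩, hu⟩ := h A I hI w
    ⟨⟨(mem_GPin'_iff Q w).2 fun i => by rw [hwl, hwr]; exact ⟨h3 i, h4 i⟩,
      ⟨x none, h5, by rw [hwl]; exact h6, by rw [hwl]; exact h7⟩⟩, by rw [hwl]; exact h8⟩
  let x' : CIdx n → A := fun o => o.elim e
    (Sum.elim (fun s => (cbasis (bA A) _).repr (u : CQ Q A) s)
      (fun s => (cbasis (bA A) _).repr (↑u⁻¹ : CQ Q A) s))
  have hl : eltL Q x' = u := (cbasis (bA A) _).ext_elem fun s => eltL_repr Q _ s
  have hr : eltR Q x' = (↑u⁻¹ : CQ Q A) := (cbasis (bA A) _).ext_elem fun s => eltR_repr Q _ s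
  have hu' : bc Q (Ideal.Quotient.mkₐ R I) (↑u⁻¹ : CQ Q A) = (↑w⁻¹ : CQ Q (A ⧸ I)) :=
    (Units.inv_eq_of_mul_eq_one_right (by rw [← hu, ← map_mul, Units.mul_inv, map_one])).symm
  refine ⟨x', (ceqns_iff Q pin x').2 ⟨?_, ?_, ?_, ?_, he, ?_, ?_, ?_⟩, funext fun o => ?_⟩
  · rw [hl, hr, Units.mul_inv]
  · rw [hl, hr, Units.inv_mul]
  · rw [hl, hr]; exact fun i => (((mem_GPin'_iff Q u).1 hu1) i).1
  · rw [hl, hr]; exact fun i => (((mem_GPin'_iff Q u).1 hu1) i).2
  · rw [hl]; exact he0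
  · rw [hl]; exact he1
  · rw [hl]; exact hu3
  rcases o with - | s | s
  · refine idem_unique Q (u := w) (e := Ideal.Quotient.mkₐ R I e) (f := x none) ?_ ?_
      (by rw [hwl]; exact h6) (by rw [hwl]; exact h7)
    · rw [← hu, ← bc_smul]; exact bc_mem_evenOdd Q _ 0 he0
    · rw [← hu, ← map_one (Ideal.Quotient.mkₐ R I), ← map_sub, ← bc_smul]
      exact bc_mem_evenOdd Q _ 1 he1
  · change Ideal.Quotient.mkₐ R I ((cbasis (bA A) _).repr (u : CQ Q A) s) = _
    rw [← bc_repr, hu, hwl, eltL_repr]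
  · change Ideal.Quotient.mkₐ R I ((cbasis (bA A) _).repr (↑u⁻¹ : CQ Q A) s) = _
    rw [← bc_repr, hu', hwr, eltR_repr]

end Model

end Groth.Agent.QuadSchemeLib
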