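import Groth.Agent.QuadSchemeLib.Cliff
import Groth.Agent.CliffRegLib.Azumaya
import Groth.Agent.CliffRegLib.Inner

/-!
# Square-zero lifting of points of Clifford groups
-/

set_option autoImplicit false
set_option backward.isDefEq.respectTransparency false

universe u v

open TensorProduct MulOpposite
open CliffordAlgebra (ι)
open Groth.Agent.CliffRegLib

namespace Groth.Agent.QuadSchemeLib

/-- Approximate intertwiners can be corrected. -/
theorem exists_intertwiner_lift {A : Type u} [CommRing A] {B : Type v} [Ring B] [Algebra A B]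
    (hbij : Function.Bijective (AlgHom.mulLeftRight A B)) (π : B →ₗ[A] A) (hπ : π 1 = 1)
    (σ : B →ₐ[A] B) {B' : Type*} [Ring B'] (F : B →+* B') (y : B)
    (hy : ∀ a, F (σ a * y) = F (y * a)) :
    ∃ u : B, (∀ a, σ a * u = u * a) ∧ F u = F y := by
  obtain ⟨e, he⟩ := hbij.2 (π.smulRight 1)
  have hcomm : ∀ a : B, (a ⊗ₜ[A] (1 : Bᵐᵒᵖ)) * e = ((1 : B) ⊗ₜ[A] op a) * e := by
    intro a
    apply hbij.1
    ext z
    rw [map_mul, map_mul, Module.End.mul_apply, Module.End.mul_apply, AlgHom.mulLeftRight_apply,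
      AlgHom.mulLeftRight_apply, he, LinearMap.smulRight_apply, one_mul, unop_one, mul_one, unop_op,
      mul_smul_comm, smul_mul_assoc, mul_one, one_mul]
  refine ⟨AlgHom.mulLeftRight A B (twist σ e) y, fun a => ?_, ?_⟩
  · have h := congrArg (fun t => AlgHom.mulLeftRight A B (twist σ t) y) (hcomm a)
    simp only [map_mul, Module.End.mul_apply, twist, Algebra.TensorProduct.map_tmul, map_one,
      AlgHom.coe_id, id_eq, AlgHom.mulLeftRight_apply, unop_one, mul_one, unop_op, one_mul] at h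
    exact h
  · have h : ∀ t, F (AlgHom.mulLeftRight A B (twist σ t) y) = F (y * AlgHom.mulLeftRight A B t 1) := by
      intro t
      induction t using TensorProduct.induction_on with
      | zero => simp
      | tmul c d =>
        simp only [twist, Algebra.TensorProduct.map_tmul, AlgHom.coe_id, id_eq, AlgHom.mulLeftRight_apply,
          mul_one]
        rw [map_mul F, hy, ← map_mul F, mul_assoc]
      | add p q hp hq => rw [map_add, map_add, LinearMap.add_apply, map_add F, hp, hq, map_add,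
          LinearMap.add_apply, mul_add, map_add F]
    rw [h, he, LinearMap.smulRight_apply, hπ, one_smul, mul_one]

variable {n : ℕ} {R : Type u} [CommRing R] (Q : QuadraticForm R (Fin n → R))

/-- The coefficient table of the form over an algebra. -/
noncomputable abbrev tab (A : Type u) [CommRing A] [Algebra R A] : Sym2 (Fin n) → A :=
  algebraMap R A ∘ QuadGrp.coeffs (Pi.basisFun R (Fin n)) (LinearEquiv.refl R R) Q

lemma mem_O_iff {A : Type u} [CommRing A] [Algebra R A]
    (g : (A ⊗[R] (Fin n → R)) ≃ₗ[A] (A ⊗[R] (Fin n → R))) :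
    g ∈ QuadGrp.O (QuadGrp.baseChangeForm A Q) ↔
      IsIsom (tab Q A) (LinearMap.toMatrix (bA A) (bA A) g.toLinearMap) := by
  rw [← mem_orth_iff A Q g]
  exact forall_congr' fun v => (AlgebraTensorModule.rid R A A).injective.eq_iff

lemma coeffs_baseChangeForm (A : Type u) [CommRing A] [Algebra R A] :
    QuadGrp.coeffs (bA A) (LinearEquiv.refl A A) (QuadGrp.baseChangeForm A Q) = tab Q A := by
  funext p
  induction p using Sym2.ind with
  | h i j =>
    simp only [tab, Function.comp_apply, QuadGrp.coeffs_mk, LinearEquiv.refl_apply,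
      Module.Basis.baseChange_apply, QuadraticMap.polar, ← TensorProduct.tmul_add,
      QuadSplitLib.baseChangeForm_one_tmul, ← map_sub]
    split_ifs <;> rfl

lemma isSemiregular_baseChange {m : ℕ} (Q : QuadraticForm R (Fin (2 * m + 1) → R))
    (hQ : QuadGrp.IsSemiregular (Pi.basisFun R (Fin (2 * m + 1))) (LinearEquiv.refl R R) Q)
    (A : Type u) [CommRing A] [Algebra R A] :
    QuadGrp.IsSemiregular (bA A) (LinearEquiv.refl A A) (QuadGrp.baseChangeForm A Q) := by
  change IsUnit (QuadGrpLib.hd (QuadGrp.coeffs (bA A) (LinearEquiv.refl A A) (QuadGrp.baseChangeForm A Q)))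
  rw [coeffs_baseChangeForm, ← QuadGrpLib.map_hd]
  exact IsUnit.map _ hQ

variable {A : Type u} [CommRing A] [Algebra R A] {I : Ideal A}

lemma det_map_bA (g : (A ⊗[R] (Fin n → R)) ≃ₗ[A] (A ⊗[R] (Fin n → R))) :
    (LinearMap.toMatrix (bA A) (bA A) g.toLinearMap).det = ((LinearEquiv.det g : Aˣ) : A) := by
  rw [LinearMap.det_toMatrix, LinearEquiv.coe_det]

/-- An isometry of the reduction comes from a lifted matrix. -/
theorem exists_isometry_lift (gb : ((A ⧸ I) ⊗[R] (Fin n → R)) ≃ₗ[A ⧸ I] ((A ⧸ I) ⊗[R] (Fin n → R)))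
    (hgb : gb ∈ QuadGrp.O (QuadGrp.baseChangeForm (A ⧸ I) Q))
    (G : Matrix (Fin n) (Fin n) A) (hG : IsIsom (tab Q A) G)
    (hmap : G.map (Ideal.Quotient.mk I) = LinearMap.toMatrix (bA (A ⧸ I)) (bA (A ⧸ I)) gb.toLinearMap) :
    ∃ (g : (A ⊗[R] (Fin n → R)) ≃ₗ[A] (A ⊗[R] (Fin n → R))) (hg : g ∈ QuadGrp.O (QuadGrp.baseChangeForm A Q)),
      ((LinearEquiv.det g : Aˣ) : A) = G.det ∧
      ∀ x, bc Q (Ideal.Quotient.mkₐ R I) (fmap g hg x) = fmap gb hgb (bc Q (Ideal.Quotient.mkₐ R I) x) := by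
  obtain ⟨g, hgm⟩ : ∃ g : (A ⊗[R] (Fin n → R)) ≃ₗ[A] (A ⊗[R] (Fin n → R)),
      LinearMap.toMatrix (bA A) (bA A) g.toLinearMap = G :=
    ⟨Matrix.toLinearEquiv (bA (R := R) A) G hG.1, LinearMap.toMatrix_toLin _ _ _⟩
  have hg : g ∈ QuadGrp.O (QuadGrp.baseChangeForm A Q) := (mem_O_iff Q g).2 (hgm ▸ hG)
  refine ⟨g, hg, by rw [← det_map_bA, hgm], fun x => ?_⟩
  induction x using CliffordAlgebra.induction with
  | algebraMap r => rw [AlgHom.commutes, bc_algebraMap, AlgHom.commutes]
  | ι v =>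
    rw [fmap_ι, bc_ι, bc_ι, fmap_ι]
    congr 1
    refine (bA (R := R) (A ⧸ I)).ext_elem fun i => ?_
    rw [repr_rTensor]
    have h1 := congrFun (LinearMap.toMatrix_mulVec_repr (bA A) (bA A) g.toLinearMap v) i
    have h2 := congrFun (LinearMap.toMatrix_mulVec_repr (bA (A ⧸ I)) (bA (A ⧸ I)) gb.toLinearMap
      (LinearMap.rTensor (Fin n → R) (Ideal.Quotient.mkₐ R I).toLinearMap v)) i
    rw [LinearEquiv.coe_coe] at h1 h2
    rw [← h1, ← h2, hgm, ← hmap]
    refine (RingHom.map_mulVec (Ideal.Quotient.mk I) G _ i).trans (congrArg (fun w => Matrix.mulVec (G.map (Ideal.Quotient.mk I)) w i) ?_)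
    funext j
    exact (repr_rTensor (Ideal.Quotient.mkₐ R I) v j).symm
  | mul p q hp hq => rw [map_mul (fmap g hg), map_mul (bc Q _), hp, hq, ← map_mul (fmap gb hgb), ← map_mul (bc Q _)]
  | add p q hp hq => rw [map_add (fmap g hg), map_add (bc Q _), hp, hq, ← map_add (fmap gb hgb), ← map_add (bc Q _)]

/-- Lifting of an idempotent. -/
lemma exists_idem_lift (hI : I ^ 2 = ⊥) (eb : A ⧸ I) (he : eb * eb = eb) :
    ∃ e : A, e * e = e ∧ Ideal.Quotient.mk I e = eb := by
  obtain ⟨a, rfl⟩ := Ideal.Quotient.mk_surjective eb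
  have hd : a * a - a ∈ I := Ideal.Quotient.eq_zero_iff_mem.1 (by rw [map_sub, map_mul, he, sub_self])
  have h0 : (a * a - a) * (a * a - a) = 0 := mul_eq_zero_of_mem hI hd hd
  refine ⟨3 * a ^ 2 - 2 * a ^ 3, by linear_combination (4 * a ^ 2 - 4 * a - 3) * h0, ?_⟩
  rw [map_sub, map_mul, map_mul, map_pow, map_pow, map_ofNat, map_ofNat]
  linear_combination (1 - 2 * Ideal.Quotient.mk I a) * he

end Groth.Agent.QuadSchemeLib
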