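import Groth.Agent.QuadSchemeLib.CliffLift

/-!
# Lifting points of the Clifford group in odd rank
-/

set_option autoImplicit false
set_option backward.isDefEq.respectTransparency false

universe u

open TensorProduct
open CliffordAlgebra (ι evenOdd)
open Groth.Agent.CliffRegLib

namespace Groth.Agent.QuadSchemeLib

variable {m : ℕ} {R : Type u} [CommRing R] (Q : QuadraticForm R (Fin (2 * m + 1) → R))
  (hQ : QuadGrp.IsSemiregular (Pi.basisFun R (Fin (2 * m + 1))) (LinearEquiv.refl R R) Q)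
include hQ

theorem exists_lift_gpin_odd {A : Type u} [CommRing A] [Algebra R A] {I : Ideal A} (hI : I ^ 2 = ⊥)
    (ub : (CQ Q (A ⧸ I))ˣ) (hub : ub ∈ QuadGrp.GPin (QuadGrp.baseChangeForm (A ⧸ I) Q)) :
    ∃ u : (CQ Q A)ˣ, u ∈ QuadGrp.GPin (QuadGrp.baseChangeForm A Q) ∧
      bc Q (Ideal.Quotient.mkₐ R I) (u : CQ Q A) = ub := by
  classical
  obtain ⟨hub1, eb, heb, heb0, heb1⟩ := hub
  obtain ⟨gb, hgb, -, hub'⟩ := exists_conj_isometry (bA (A ⧸ I)) hub1
  have hs := isSemiregular_baseChange Q hQ A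
  have hsb := isSemiregular_baseChange Q hQ (A ⧸ I)
  have hdetb := det_eq_one_of_conj (bA (A ⧸ I)) hsb hgb hub'
  have hu : IsUnit (QuadGrpLib.hd (tab Q A)) := by
    rw [← QuadGrpLib.map_hd]; exact IsUnit.map _ hQ
  obtain ⟨G, hG, hGd, hmap⟩ := exists_lift_odd hI _ hu _ ((mem_O_iff Q gb).1 hgb)
    (by rw [det_map_bA, hdetb, Units.val_one])
  obtain ⟨g, hg, hgd, hnat⟩ := exists_isometry_lift Q gb hgb G hG hmap
  obtain ⟨η, t, D, -⟩ := exists_oddDatum (bA A) hs
  have hfix : fmap g hg η = η := by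
    rw [fmap_odd_centre (bA A) hs D g hg, hgd, hGd, one_smul]
  obtain ⟨e, he, hemk⟩ := exists_idem_lift hI eb heb
  obtain ⟨t', ht'⟩ := D.unit
  set F := bc Q (Ideal.Quotient.mkₐ R I) with hF
  set z : CQ Q A := algebraMap A _ e + (1 - e) • η with hz
  set z' : CQ Q A := algebraMap A _ e + ((1 - e) * (↑t'⁻¹ : A)) • η with hz'
  have hzz : z * z' = 1 := by
    simp only [hz, hz', add_mul, mul_add, Algebra.algebraMap_eq_smul_one, smul_mul_smul_comm, one_mul, mul_one,
      D.sq, smul_smul]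
    rw [show e * e = e from he, show e * ((1 - e) * (↑t'⁻¹ : A)) = 0 by linear_combination -(↑t'⁻¹ : A) * he,
      show (1 - e) * e = 0 by linear_combination -he,
      show (1 - e) * ((1 - e) * (↑t'⁻¹ : A)) * t = 1 - e by
        rw [← ht']; linear_combination ((1 - e) * (1 - e)) * t'.inv_mul + he]
    simp only [zero_smul, add_zero, zero_add, sub_smul, one_smul]
    abel
  have hzc : ∀ x, x * z = z * x := fun x => by
    rw [hz, mul_add, add_mul, Algebra.commutes, mul_smul_comm, smul_mul_assoc, D.comm x]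
  have hz'c : ∀ x, x * z' = z' * x := fun x => by
    rw [hz', mul_add, add_mul, Algebra.commutes, mul_smul_comm, smul_mul_assoc, D.comm x]
  obtain ⟨y, hy⟩ := bc_surjective Q (Ideal.Quotient.mkₐ R I) Ideal.Quotient.mk_surjective (ub : CQ Q (A ⧸ I))
  set y₀ : ↥(CliffordAlgebra.even (QuadGrp.baseChangeForm A Q)) := p0 _ (z' * y) with hy₀
  -- the reduction of `z' * y` is even
  have hFη : F η ∈ evenOdd (QuadGrp.baseChangeForm (A ⧸ I) Q) 1 := bc_mem_evenOdd Q _ 1 D.odd
  have hFeven : F (z' * y) ∈ evenOdd (QuadGrp.baseChangeForm (A ⧸ I) Q) 0 := by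
    rw [hF, map_mul, hy, hz', map_add, bc_algebraMap, bc_smul, map_mul, map_sub, map_one, add_mul,
      ← Algebra.smul_def, smul_mul_assoc, show (Ideal.Quotient.mkₐ R I) e = eb from hemk,
      mul_comm (1 - eb), mul_smul, ← mul_smul_comm]
    exact Submodule.add_mem _ heb0 (Submodule.smul_mem _ _ (mul_mem_even _ hFη heb1))
  have hFy₀ : F (y₀ : CQ Q A) = F z' * ub := by
    rw [hy₀, hF, ← bc_p0, ← hy, ← map_mul]
    exact congrArg Subtype.val (p0_even _ ⟨_, hFeven⟩)
  haveI := isAzumaya_even_odd (bA A) hs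
  let σ : ↥(CliffordAlgebra.even (QuadGrp.baseChangeForm A Q)) →ₐ[A] ↥(CliffordAlgebra.even (QuadGrp.baseChangeForm A Q)) :=
    ((fmap g hg).comp (CliffordAlgebra.even _).val).codRestrict _ fun x => fmap_mem_evenOdd g hg 0 x.2
  obtain ⟨u₀, hu₀, hFu₀⟩ := exists_intertwiner_lift
    (IsAzumaya.bij (R := A) (A := ↥(CliffordAlgebra.even (QuadGrp.baseChangeForm A Q)))) _
    (coord_one (bA A)) σ (F.comp (CliffordAlgebra.even (QuadGrp.baseChangeForm A Q)).toSubring.subtype) y₀
    (fun a => by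
      change F (fmap g hg (a : CQ Q A) * (y₀ : CQ Q A)) = F ((y₀ : CQ Q A) * (a : CQ Q A))
      have hc : fmap gb hgb (F (a : CQ Q A)) * F z' = F z' * fmap gb hgb (F (a : CQ Q A)) := by
        rw [hF, ← hnat, ← map_mul, hz'c, map_mul]
      rw [map_mul F, map_mul F, hFy₀, hF, hnat, ← hF, ← mul_assoc, hc, mul_assoc, hub', mul_assoc])
  have hFu₀' : F (u₀ : CQ Q A) = F z' * ub := hFu₀.trans hFy₀
  have hFzu : F (z * u₀) = ub := by
    rw [map_mul, hFu₀', ← mul_assoc, ← map_mul, hzz, map_one, one_mul]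
  obtain ⟨U, hU⟩ := isUnit_of_bc Q hI (show IsUnit (F (z * u₀)) by rw [hFzu]; exact ub.isUnit)
  have hall : ∀ x, fmap g hg x * (u₀ : CQ Q A) = (u₀ : CQ Q A) * x := by
    have heven : ∀ w ∈ evenOdd (QuadGrp.baseChangeForm A Q) 0,
        fmap g hg w * (u₀ : CQ Q A) = (u₀ : CQ Q A) * w := fun w hw => congrArg Subtype.val (hu₀ ⟨w, hw⟩)
    intro x
    obtain ⟨x₀, x₁, hx₁, rfl⟩ := exists_parts _ x
    have h := heven _ (mul_mem_even _ hx₁ D.odd)
    rw [map_mul, hfix, mul_assoc, ← D.comm (u₀ : CQ Q A), ← mul_assoc, ← mul_assoc] at h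
    rw [map_add, add_mul, mul_add, heven _ x₀.2, D.isUnit_η.mul_right_cancel h]
  have hUx : ∀ x, fmap g hg x * (U : CQ Q A) = (U : CQ Q A) * x := fun x => by
    rw [hU, ← mul_assoc, hzc, mul_assoc, hall, mul_assoc]
  have hzu : z * (u₀ : CQ Q A) = e • (u₀ : CQ Q A) + (1 - e) • (η * (u₀ : CQ Q A)) := by
    rw [hz, add_mul, ← Algebra.smul_def, smul_mul_assoc]
  refine ⟨U, ⟨mem_GPin'_of_conj g fun v => ?_, e, he, ?_, ?_⟩, by rw [hU]; exact hFzu⟩
  · rw [← hUx, mul_assoc, Units.mul_inv, mul_one]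
    exact fmap_ι g hg v
  · rw [hU, hzu, smul_add, smul_smul, smul_smul, show e * e = e from he,
      show e * (1 - e) = 0 by linear_combination -he, zero_smul, add_zero]
    exact Submodule.smul_mem _ _ u₀.2
  · rw [hU, hzu, smul_add, smul_smul, smul_smul, show (1 - e) * e = 0 by linear_combination -he, zero_smul, zero_add]
    exact Submodule.smul_mem _ _ (mul_mem_odd _ D.odd u₀.2)

/-- The polar values generate the unit ideal in rank at least three. -/
theorem span_polar_eq_top (hm : 1 ≤ m) (A : Type u) [CommRing A] [Algebra R A] :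
    Ideal.span (Set.range fun q : Fin (2 * m + 1) × Fin (2 * m + 1) => QuadGrpLib.polarOf (tab Q A) q.1 q.2) = ⊤ := by
  classical
  by_contra h
  obtain ⟨p, hp, hle⟩ := Ideal.exists_le_maximal _ h
  have hu : IsUnit (QuadGrpLib.hd (tab Q A)) := by
    rw [← QuadGrpLib.map_hd]; exact IsUnit.map _ hQ
  have hP : ∀ i j, QuadGrpLib.polarOf (tab Q A) i j ∈ p := fun i j => hle (Ideal.subset_span ⟨(i, j), rfl⟩)
  have hnot : QuadGrpLib.hd (tab Q A) ∉ p := fun hh => hp.ne_top (Ideal.eq_top_of_isUnit_mem _ hh hu)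
  have hdet : (QuadGrpLib.polarOf (tab Q A)).det ∈ p := by
    rw [Matrix.det_apply]
    refine Ideal.sum_mem _ fun σ _ => ?_
    rw [Units.smul_def, zsmul_eq_mul, ← Finset.mul_prod_erase _ _ (Finset.mem_univ (0 : Fin (2 * m + 1)))]
    exact Ideal.mul_mem_left _ _ (Ideal.mul_mem_right _ _ (hP _ _))
  rw [← QuadGrpLib.two_mul_hd ⟨m, rfl⟩] at hdet
  refine hnot (QuadSplitLib.hd_mem_of_cross_mem ⟨m, rfl⟩ (by omega) _
    ((hp.isPrime.mem_or_mem hdet).resolve_right hnot) fun i j hij => ?_)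
  have := hP i j
  rwa [QuadGrpLib.polarOf, Matrix.of_apply, if_neg hij] at this

theorem exists_lift_pin_odd (hm : 1 ≤ m) {A : Type u} [CommRing A] [Algebra R A] {I : Ideal A} (hI : I ^ 2 = ⊥)
    (ub : (CQ Q (A ⧸ I))ˣ) (hub : ub ∈ QuadGrp.GPin (QuadGrp.baseChangeForm (A ⧸ I) Q))
    (hn : star (ub : CQ Q (A ⧸ I)) * ub = 1) :
    ∃ u : (CQ Q A)ˣ, (u ∈ QuadGrp.GPin (QuadGrp.baseChangeForm A Q) ∧ star (u : CQ Q A) * u = 1) ∧
      bc Q (Ideal.Quotient.mkₐ R I) (u : CQ Q A) = ub := by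
  classical
  obtain ⟨u, hu, hFu⟩ := exists_lift_gpin_odd Q hQ hI ub hub
  set F := bc Q (Ideal.Quotient.mkₐ R I) with hF
  have hs := isSemiregular_baseChange Q hQ A
  obtain ⟨g, hg, hv, -⟩ := exists_conj_isometry (bA A) hu.1
  obtain ⟨e, he, he0, he1⟩ := hu.2
  have hstar : ∀ {i : ZMod 2} {x : CQ Q A}, x ∈ evenOdd (QuadGrp.baseChangeForm A Q) i →
      star x ∈ evenOdd (QuadGrp.baseChangeForm A Q) i := fun h => by
    rw [CliffordAlgebra.star_def]
    exact (CliffordAlgebra.reverse_mem_evenOdd_iff _).2 ((CliffordAlgebra.involute_mem_evenOdd_iff _).2 h)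
  have hee : e • (e • (star (u : CQ Q A) * u)) + (1 - e) • ((1 - e) • (star (u : CQ Q A) * u)) =
      star (u : CQ Q A) * u := by
    have he' : e * e = e := he
    rw [smul_smul, smul_smul, ← add_smul, show e * e + (1 - e) * (1 - e) = 1 by
      linear_combination 2 * he', one_smul]
  have heven : star (u : CQ Q A) * u ∈ evenOdd (QuadGrp.baseChangeForm A Q) 0 := by
    rw [← hee]
    refine Submodule.add_mem _ ?_ ?_
    · rw [← smul_mul_assoc, ← CliffordAlgebra.star_smul, ← mul_smul_comm]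
      have := SetLike.mul_mem_graded (hstar he0) he0
      rwa [add_zero] at this
    · rw [← smul_mul_assoc, ← CliffordAlgebra.star_smul, ← mul_smul_comm]
      exact mul_mem_even _ (hstar he1) he1
  have hcen : ∀ x, x * (star (u : CQ Q A) * u) = star (u : CQ Q A) * u * x :=
    commute_of_basis (bA A) _ _ fun i => by
      have hi : ι (QuadGrp.baseChangeForm A Q) (g (bA A i)) * u = u * ι (QuadGrp.baseChangeForm A Q) (bA A i) := by
        rw [← hv, mul_assoc, Units.inv_mul, mul_one]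
      have h := congrArg star hi
      simp only [star_mul, CliffordAlgebra.star_ι, mul_neg, neg_mul, neg_inj] at h
      rw [← mul_assoc, ← h, mul_assoc, hi, mul_assoc]
  obtain ⟨r, hr⟩ := scalar_of_commute_even (bA A) hs heven fun x _ => hcen x
  have hr1 : r - 1 ∈ I := by
    refine Ideal.Quotient.eq_zero_iff_mem.1 ?_
    refine algebraMap_injective (bA (A ⧸ I)) (QuadGrp.baseChangeForm (A ⧸ I) Q) ?_
    have := congrArg F hr
    rw [map_mul, hF, bc_star, hFu, hn, bc_algebraMap] at this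
    rw [map_sub, map_one, map_sub, map_one, map_zero]
    exact sub_eq_zero.2 this.symm
  -- the correction
  have hspan := span_polar_eq_top Q hQ hm A
  obtain ⟨d, hd⟩ : ∃ d : Fin (2 * m + 1) × Fin (2 * m + 1) → A,
      ∑ q, d q * QuadGrpLib.polarOf (tab Q A) q.1 q.2 = 1 := by
    obtain ⟨d, hd⟩ := Ideal.mem_span_range_iff_exists_fun.1 (show (1 : A) ∈ _ by rw [hspan]; exact Submodule.mem_top)
    exact ⟨d, hd⟩
  set s := 1 - r with hsdef
  have hsI : s ∈ I := by rw [hsdef, ← neg_sub]; exact I.neg_mem hr1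
  set k : CQ Q A := ∑ q : Fin (2 * m + 1) × Fin (2 * m + 1),
    (s * d q) • (ι (QuadGrp.baseChangeForm A Q) (bA A q.1) * ι (QuadGrp.baseChangeForm A Q) (bA A q.2)) with hk
  have hkeven : k ∈ evenOdd (QuadGrp.baseChangeForm A Q) 0 := Submodule.sum_mem _ fun q _ =>
    Submodule.smul_mem _ _ (CliffordAlgebra.ι_mul_ι_mem_evenOdd_zero _ _ _)
  have hFk : F k = 0 := by
    rw [hk, map_sum]
    refine Finset.sum_eq_zero fun q _ => ?_
    rw [hF, bc_smul, map_mul, show Ideal.Quotient.mkₐ R I s = 0 from Ideal.Quotient.eq_zero_iff_mem.2 hsI, zero_mul,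
      zero_smul]
  have hkk : k * k = 0 := mul_eq_zero_of_bc Q hI hFk hFk
  have hpol : ∀ v w, QuadraticMap.polar (QuadGrp.baseChangeForm A Q) (bA A v) (bA A w) =
      QuadGrpLib.polarOf (tab Q A) v w := fun v w => by
    rw [← coeffs_baseChangeForm, ← QuadGrpLib.polarMat_eq_polarOf]
    rfl
  have hkstar : k + star k = algebraMap A _ s := by
    rw [hk, star_sum, ← Finset.sum_add_distrib]
    rw [show algebraMap A (CQ Q A) s = ∑ q : Fin (2 * m + 1) × Fin (2 * m + 1),
        algebraMap A (CQ Q A) (s * d q * QuadGrpLib.polarOf (tab Q A) q.1 q.2) by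
      simp only [mul_assoc]
      rw [← map_sum, ← Finset.mul_sum, hd, mul_one]]
    refine Finset.sum_congr rfl fun q _ => ?_
    rw [CliffordAlgebra.star_smul, ← smul_add, star_mul, CliffordAlgebra.star_ι, CliffordAlgebra.star_ι,
      neg_mul_neg, CliffordAlgebra.ι_mul_ι_add_swap, hpol, Algebra.smul_def, ← map_mul]
  let w : (CQ Q A)ˣ := ⟨1 + k, 1 - k,
    by rw [mul_sub, mul_one, add_mul, one_mul, hkk, add_zero, add_sub_cancel_right],
    by rw [sub_mul, one_mul, mul_add, mul_one, hkk, add_zero, add_sub_cancel_right]⟩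
  have hcomm : ∀ v, k * ι (QuadGrp.baseChangeForm A Q) v - ι (QuadGrp.baseChangeForm A Q) v * k ∈
      LinearMap.range (ι (QuadGrp.baseChangeForm A Q)) := by
    intro v
    rw [hk, Finset.sum_mul, Finset.mul_sum, ← Finset.sum_sub_distrib]
    refine Submodule.sum_mem _ fun q _ => ?_
    rw [smul_mul_assoc, mul_smul_comm, ← smul_sub]
    refine Submodule.smul_mem _ _ ⟨QuadraticMap.polar (QuadGrp.baseChangeForm A Q) (bA A q.2) v • bA A q.1 -
      QuadraticMap.polar (QuadGrp.baseChangeForm A Q) (bA A q.1) v • bA A q.2, ?_⟩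
    rw [map_sub, map_smul, map_smul, Algebra.smul_def, Algebra.smul_def, Algebra.commutes,
      ← CliffordAlgebra.ι_mul_ι_add_swap, ← CliffordAlgebra.ι_mul_ι_add_swap]
    noncomm_ring
  have hkvk : ∀ v, k * ι (QuadGrp.baseChangeForm A Q) v * k = 0 := fun v => by
    rw [mul_assoc]
    refine mul_eq_zero_of_bc Q hI hFk ?_
    rw [← hF, map_mul, hFk, mul_zero]
  have hw : w ∈ QuadGrp.GPin' (QuadGrp.baseChangeForm A Q) := by
    refine (mem_GPin'_iff Q w).2 fun i => ⟨?_, ?_⟩
    · have := Submodule.add_mem _ (LinearMap.mem_range_self (ι (QuadGrp.baseChangeForm A Q)) (bA A i)) (hcomm (bA A i))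
      convert this using 1
      change (1 + k) * _ * (1 - k) = _
      rw [mul_sub, add_mul, one_mul, mul_one, add_mul, hkvk, add_zero]
      abel
    · have := Submodule.sub_mem _ (LinearMap.mem_range_self (ι (QuadGrp.baseChangeForm A Q)) (bA A i)) (hcomm (bA A i))
      convert this using 1
      change (1 - k) * _ * (1 + k) = _
      rw [mul_add, sub_mul, one_mul, mul_one, sub_mul, hkvk, sub_zero]
      abel
  have hw0 : (w : CQ Q A) ∈ evenOdd (QuadGrp.baseChangeForm A Q) 0 :=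
    Submodule.add_mem _ (SetLike.one_mem_graded _) hkeven
  refine ⟨u * w, ⟨⟨mul_mem hu.1 hw, mul_mem hu.2 ⟨1, IsIdempotentElem.one, ?_, ?_⟩⟩, ?_⟩, ?_⟩
  · rw [one_smul]; exact hw0
  · rw [sub_self, zero_smul]; exact Submodule.zero_mem _
  · rw [Units.val_mul, star_mul, mul_assoc, ← mul_assoc (star (u : CQ Q A)), hr]
    change star (1 + k) * (algebraMap A (CQ Q A) r * (1 + k)) = 1
    rw [star_add, star_one, add_mul, one_mul, mul_add, mul_one, mul_add]
    have hstark : F (star k) = 0 := by rw [hF, bc_star, ← hF, hFk, star_zero]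
    have h1 : star k * (algebraMap A _ r * k) = 0 :=
      mul_eq_zero_of_bc Q hI hstark (by rw [← hF, map_mul, hFk, mul_zero])
    have h2 : ∀ x, F x = 0 → algebraMap A (CQ Q A) r * x = x := fun x hx => by
      have : algebraMap A (CQ Q A) (r - 1) * x = 0 := mul_eq_zero_of_bc Q hI (by
        rw [← hF, hF, bc_algebraMap, show Ideal.Quotient.mkₐ R I (r - 1) = 0 from
          Ideal.Quotient.eq_zero_iff_mem.2 hr1, map_zero]) hx
      rwa [map_sub, map_one, sub_mul, one_mul, sub_eq_zero] at this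
    rw [h1, add_zero, ← Algebra.commutes r (star k), h2 k hFk, h2 (star k) hstark, add_assoc, hkstar,
      ← map_add, hsdef, add_sub_cancel, map_one]
  · rw [Units.val_mul, map_mul, hFu]
    change _ * F (1 + k) = _
    rw [map_add, hFk, map_one, add_zero, mul_one]

end Groth.Agent.QuadSchemeLib
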