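import Groth.Agent.CliffRegLib.OddEta
import Mathlib.FieldTheory.IsAlgClosed.AlgebraicClosure

/-!
# Isometry matrices lift along square-zero extensions
-/

set_option autoImplicit false
set_option backward.isDefEq.respectTransparency false

universe u

open Matrix
open Groth.Agent.CliffRegLib

namespace Groth.Agent.QuadSchemeLib

variable {n : ℕ} {A : Type u} [CommRing A]

/-- `g` is an invertible matrix preserving the table `a`. -/
def IsIsom (a : Sym2 (Fin n) → A) (g : Matrix (Fin n) (Fin n) A) : Prop :=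
  IsUnit g.det ∧ QuadGrpLib.co (g.transpose * upMat a * g) = a

lemma co_add (B C : Matrix (Fin n) (Fin n) A) :
    QuadGrpLib.co (B + C) = QuadGrpLib.co B + QuadGrpLib.co C := by
  funext p
  induction p using Sym2.ind with
  | h i j =>
    simp only [Pi.add_apply, QuadGrpLib.co_mk, Matrix.add_apply]
    split_ifs <;> ring

lemma co_smul (c : A) (B : Matrix (Fin n) (Fin n) A) : QuadGrpLib.co (c • B) = c • QuadGrpLib.co B := by
  funext p
  induction p using Sym2.ind with
  | h i j =>
    simp only [Pi.smul_apply, QuadGrpLib.co_mk, Matrix.smul_apply, smul_eq_mul]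
    split_ifs <;> ring

lemma co_sub (B C : Matrix (Fin n) (Fin n) A) :
    QuadGrpLib.co (B - C) = QuadGrpLib.co B - QuadGrpLib.co C := by
  rw [eq_sub_iff_add_eq, ← co_add, sub_add_cancel]

lemma co_transpose (B : Matrix (Fin n) (Fin n) A) : QuadGrpLib.co B.transpose = QuadGrpLib.co B := by
  funext p
  induction p using Sym2.ind with
  | h i j =>
    simp only [QuadGrpLib.co_mk, Matrix.transpose_apply]
    split_ifs with h
    · subst h; rfl
    · ring

lemma upMat_add_transpose' (a : Sym2 (Fin n) → A) :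
    upMat a + (upMat a).transpose = QuadGrpLib.polarOf a := by
  rw [← QuadGrpLib.polarOf_co, co_upMat]

lemma polarOf_transpose (a : Sym2 (Fin n) → A) :
    (QuadGrpLib.polarOf a).transpose = QuadGrpLib.polarOf a := by
  rw [← upMat_add_transpose', Matrix.transpose_add, Matrix.transpose_transpose, add_comm]

variable {I : Ideal A}

lemma upMat_mem {δ : Sym2 (Fin n) → A} (hδ : ∀ p, δ p ∈ I) (i j : Fin n) : upMat δ i j ∈ I := by
  rw [upMat, Matrix.of_apply]
  split_ifs <;> first | exact hδ _ | exact I.zero_mem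

lemma mul_mem_left_entries {l m k : ℕ} (X : Matrix (Fin l) (Fin m) A) {Y : Matrix (Fin m) (Fin k) A}
    (hY : ∀ i j, Y i j ∈ I) (i : Fin l) (j : Fin k) : (X * Y) i j ∈ I := by
  rw [Matrix.mul_apply]
  exact Ideal.sum_mem _ fun s _ => I.mul_mem_left _ (hY s j)

section SquareZero

variable (hI : I ^ 2 = ⊥)
include hI

lemma mul_eq_zero_of_mem {x y : A} (hx : x ∈ I) (hy : y ∈ I) : x * y = 0 := by
  rw [← Ideal.mem_bot, ← hI, pow_two]
  exact Ideal.mul_mem_mul hx hy

/-- The first order effect of a change of variables. -/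
lemma co_perturb (B k : Matrix (Fin n) (Fin n) A) (hk : ∀ i j, k i j ∈ I) :
    QuadGrpLib.co ((1 + k).transpose * B * (1 + k)) =
      QuadGrpLib.co B + QuadGrpLib.co ((B + B.transpose) * k) := by
  have h0 : k.transpose * B * k = 0 := by
    ext i j
    rw [Matrix.mul_apply]
    refine Finset.sum_eq_zero fun s _ => ?_
    rw [Matrix.mul_apply, Finset.sum_mul]
    refine Finset.sum_eq_zero fun r _ => ?_
    rw [mul_right_comm, Matrix.transpose_apply, mul_eq_zero_of_mem hI (hk r i) (hk s j), zero_mul]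
  rw [Matrix.transpose_add, Matrix.transpose_one,
    show (1 + k.transpose) * B * (1 + k) = B + (k.transpose * B + B * k) + k.transpose * B * k by
      noncomm_ring, h0, add_zero, co_add, co_add, ← co_transpose (k.transpose * B), Matrix.transpose_mul,
    Matrix.transpose_transpose, ← co_add, ← Matrix.add_mul, add_comm B.transpose]

lemma det_one_add (k : Matrix (Fin n) (Fin n) A) (hk : ∀ i j, k i j ∈ I) :
    (1 + k).det = 1 + k.trace := by
  classical
  rw [Matrix.det_apply, Finset.sum_eq_single (1 : Equiv.Perm (Fin n))]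
  · rw [Equiv.Perm.sign_one, one_smul]
    have : ∀ s : Finset (Fin n), ∏ i ∈ s, (1 + k i i) = 1 + ∑ i ∈ s, k i i := by
      intro s
      induction s using Finset.induction_on with
      | empty => simp
      | insert a s ha ih =>
        rw [Finset.prod_insert ha, Finset.sum_insert ha, ih]
        linear_combination mul_eq_zero_of_mem hI (hk a a) (Ideal.sum_mem I fun i (_ : i ∈ s) => hk i i)
    simpa [Matrix.trace] using this Finset.univ
  · intro σ _ hσ
    obtain ⟨i, hi⟩ : ∃ i, σ i ≠ i := by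
      by_contra h
      push Not at h
      exact hσ (Equiv.ext h)
    have h : ∏ j, (1 + k) (σ j) j = 0 := by
      rw [← Finset.mul_prod_erase _ _ (Finset.mem_univ i),
        ← Finset.mul_prod_erase _ _ (Finset.mem_erase.2 ⟨hi, Finset.mem_univ (σ i)⟩), ← mul_assoc]
      have h1 : (1 + k) (σ i) i ∈ I := by
        rw [Matrix.add_apply, Matrix.one_apply_ne hi, zero_add]; exact hk _ _
      have h2 : (1 + k) (σ (σ i)) (σ i) ∈ I := by
        rw [Matrix.add_apply, Matrix.one_apply_ne (fun h => hi (σ.injective h)), zero_add]; exact hk _ _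
      rw [mul_eq_zero_of_mem hI h1 h2, zero_mul]
    rw [h, smul_zero]
  · exact fun h => absurd (Finset.mem_univ _) h

omit hI in
lemma isUnit_of_sub_mem (hI' : I ^ 2 = ⊥) {x y : A} (hy : IsUnit y) (h : x - y ∈ I) : IsUnit x := by
  have hn : IsNilpotent (x - y) := ⟨2, by rw [pow_two]; exact mul_eq_zero_of_mem hI' h h⟩
  have := IsNilpotent.isUnit_add_left_of_commute hn hy (Commute.all _ _)
  rwa [add_sub_cancel] at this

/-- Correcting an approximate isometry. -/
theorem isom_correct (a : Sym2 (Fin n) → A) (g k : Matrix (Fin n) (Fin n) A) (hg : IsUnit g.det)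
    (hk : ∀ i j, k i j ∈ I)
    (h : QuadGrpLib.co (QuadGrpLib.polarOf (QuadGrpLib.co (g.transpose * upMat a * g)) * k) =
      a - QuadGrpLib.co (g.transpose * upMat a * g)) :
    IsIsom a (g * (1 + k)) := by
  refine ⟨?_, ?_⟩
  · rw [Matrix.det_mul, det_one_add hI k hk]
    refine hg.mul (isUnit_of_sub_mem hI isUnit_one ?_)
    rw [add_sub_cancel_left]
    exact Ideal.sum_mem _ fun i _ => hk i i
  · rw [Matrix.transpose_mul, show (1 + k).transpose * g.transpose * upMat a * (g * (1 + k)) =
      (1 + k).transpose * (g.transpose * upMat a * g) * (1 + k) by simp only [Matrix.mul_assoc],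
      co_perturb hI _ _ hk, ← QuadGrpLib.polarOf_co, h, add_sub_cancel]

end SquareZero

lemma exists_lift_matrix (a : Sym2 (Fin n) → A) (gb : Matrix (Fin n) (Fin n) (A ⧸ I)) (hI : I ^ 2 = ⊥)
    (h : IsIsom (Ideal.Quotient.mk I ∘ a) gb) :
    ∃ g : Matrix (Fin n) (Fin n) A, g.map (Ideal.Quotient.mk I) = gb ∧ IsUnit g.det ∧
      ∀ p, (a - QuadGrpLib.co (g.transpose * upMat a * g)) p ∈ I := by
  classical
  choose f hf using fun i j => Ideal.Quotient.mk_surjective (I := I) (gb i j)
  have hmap : (Matrix.of f).map (Ideal.Quotient.mk I) = gb := Matrix.ext hf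
  refine ⟨Matrix.of f, hmap, ?_, fun p => ?_⟩
  · obtain ⟨d, hd⟩ := Ideal.Quotient.mk_surjective (I := I) (↑h.1.unit⁻¹ : A ⧸ I)
    have h1 : IsUnit ((Matrix.of f).det * d) := by
      refine isUnit_of_sub_mem hI isUnit_one (Ideal.Quotient.eq_zero_iff_mem.1 ?_)
      rw [map_sub, map_mul, RingHom.map_det, RingHom.mapMatrix_apply, hmap, hd, map_one,
        IsUnit.mul_val_inv, sub_self]
    exact (IsUnit.mul_iff.1 h1).1
  · refine Ideal.Quotient.eq_zero_iff_mem.1 ?_
    have h2 := congrFun (QuadGrpLib.map_co (Ideal.Quotient.mk I) ((Matrix.of f).transpose * upMat a * Matrix.of f)) p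
    have h3 : ((Matrix.of f).transpose * upMat a * Matrix.of f).map (Ideal.Quotient.mk I) =
        gb.transpose * upMat (Ideal.Quotient.mk I ∘ a) * gb := by
      rw [Matrix.map_mul, Matrix.map_mul, Matrix.transpose_map, hmap,
        QuadSplitLib.map_upMat (Ideal.Quotient.mk I) a]
    rw [h3, h.2] at h2
    rw [Pi.sub_apply, map_sub]
    exact sub_eq_zero.2 h2.symm

lemma map_mk_mul_one_add (g k : Matrix (Fin n) (Fin n) A) (hk : ∀ i j, k i j ∈ I) :
    (g * (1 + k)).map (Ideal.Quotient.mk I) = g.map (Ideal.Quotient.mk I) := by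
  have h : k.map (Ideal.Quotient.mk I) = 0 := Matrix.ext fun i j => Ideal.Quotient.eq_zero_iff_mem.2 (hk i j)
  rw [Matrix.map_mul, Matrix.map_add _ (map_add _), h, Matrix.map_one _ (map_zero _) (map_one _), add_zero,
    Matrix.mul_one]

lemma det_polar_of_isUnit (a : Sym2 (Fin n) → A) (g : Matrix (Fin n) (Fin n) A)
    (hg : IsUnit g.det) (ha : IsUnit (QuadGrpLib.polarOf a).det) :
    IsUnit (QuadGrpLib.polarOf (QuadGrpLib.co (g.transpose * upMat a * g))).det := by
  rw [QuadGrpLib.polarOf_co, show g.transpose * upMat a * g + (g.transpose * upMat a * g).transpose =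
    g.transpose * (upMat a + (upMat a).transpose) * g by
      rw [Matrix.transpose_mul, Matrix.transpose_mul, Matrix.transpose_transpose, Matrix.mul_add,
        Matrix.add_mul, Matrix.mul_assoc g.transpose (upMat a).transpose],
    upMat_add_transpose', Matrix.det_mul, Matrix.det_mul, Matrix.det_transpose]
  exact (hg.mul ha).mul hg

/-- Lifting when the polar form is perfect. -/
theorem exists_lift_regular (hI : I ^ 2 = ⊥) (a : Sym2 (Fin n) → A) (ha : IsUnit (QuadGrpLib.polarOf a).det)
    (gb : Matrix (Fin n) (Fin n) (A ⧸ I)) (h : IsIsom (Ideal.Quotient.mk I ∘ a) gb) :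
    ∃ g, IsIsom a g ∧ g.map (Ideal.Quotient.mk I) = gb := by
  obtain ⟨g, hg, hu, hδ⟩ := exists_lift_matrix a gb hI h
  set a' := QuadGrpLib.co (g.transpose * upMat a * g) with ha'
  have hP := det_polar_of_isUnit a g hu ha
  rw [← ha'] at hP
  let k := (QuadGrpLib.polarOf a')⁻¹ * upMat (a - a')
  have hk : ∀ i j, k i j ∈ I := mul_mem_left_entries _ (upMat_mem hδ)
  refine ⟨g * (1 + k), isom_correct hI a g k hu hk ?_, by rw [map_mk_mul_one_add g k hk, hg]⟩
  rw [← ha', ← Matrix.mul_assoc, Matrix.mul_nonsing_inv _ hP, Matrix.one_mul, co_upMat]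

section OddIdentities

/-- The principal cofactor of the polar matrix. -/
def cof (a : Sym2 (Fin n) → A) (i : Fin n) : A :=
  ((QuadGrpLib.polarOf a).updateRow i (Pi.single i 1)).det

lemma map_cof {A B : Type*} [CommRing A] [CommRing B] (f : A →+* B) (a : Sym2 (Fin n) → A) (i : Fin n) :
    f (cof a i) = cof (f ∘ a) i := by
  classical
  rw [cof, cof, RingHom.map_det, RingHom.mapMatrix_apply, ← QuadGrpLib.map_polarOf]
  congr 1
  ext r s
  rw [Matrix.map_apply, Matrix.updateRow_apply, Matrix.updateRow_apply]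
  split_ifs with hr
  · rcases eq_or_ne s i with rfl | hs
    · rw [Pi.single_eq_same, Pi.single_eq_same, map_one]
    · rw [Pi.single_eq_of_ne hs, Pi.single_eq_of_ne hs, map_zero]
  · rw [Matrix.map_apply]

/-- The half-discriminant is linear in a diagonal coefficient. -/
theorem hd_add_single {n : ℕ} (hn : Odd n) {A : Type u} [CommRing A] (a : Sym2 (Fin n) → A) (i : Fin n) (c : A) :
    QuadGrpLib.hd (a + Pi.single (Sym2.mk i i) c) = QuadGrpLib.hd a + c * cof a i := by
  classical
  let U := MvPolynomial (Option (Sym2 (Fin n))) ℤ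
  let a₀ : Sym2 (Fin n) → U := fun p => MvPolynomial.X (some p)
  let c₀ : U := MvPolynomial.X none
  have h2 : (2 : U) ≠ 0 := fun h => by
    have := congrArg (MvPolynomial.constantCoeff : U →+* ℤ) h
    simp [map_ofNat] at this
  have huniv : QuadGrpLib.hd (a₀ + Pi.single (Sym2.mk i i) c₀) = QuadGrpLib.hd a₀ + c₀ * cof a₀ i := by
    apply mul_left_cancel₀ h2
    rw [mul_add, QuadGrpLib.two_mul_hd hn, QuadGrpLib.two_mul_hd hn, cof]
    have hP : QuadGrpLib.polarOf (a₀ + Pi.single (Sym2.mk i i) c₀) =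
        (QuadGrpLib.polarOf a₀).updateRow i (QuadGrpLib.polarOf a₀ i + (2 * c₀) • Pi.single i 1) := by
      refine Matrix.ext fun r s => ?_
      rw [Matrix.updateRow_apply]
      simp only [QuadGrpLib.polarOf, Matrix.of_apply, Pi.add_apply, Pi.smul_apply, smul_eq_mul]
      rcases eq_or_ne r i with rfl | hr
      · rw [if_pos rfl]
        rcases eq_or_ne r s with rfl | hs
        · simp; ring
        · have : Sym2.mk r s ≠ Sym2.mk r r := by simp [Sym2.eq_iff, Ne.symm hs]
          rw [if_neg hs, if_neg hs, Pi.single_eq_of_ne this, Pi.single_eq_of_ne (Ne.symm hs)]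
          ring
      · rw [if_neg hr]
        have : Sym2.mk r s ≠ Sym2.mk i i := by simp [Sym2.eq_iff, hr]
        rw [Pi.single_eq_of_ne this, add_zero]
    rw [hP, Matrix.det_updateRow_add, Matrix.det_updateRow_smul, Matrix.updateRow_eq_self, mul_assoc]
  let f : U →+* A := MvPolynomial.eval₂Hom (Int.castRingHom A)
    fun o => o.elim c a
  have hfa : f ∘ a₀ = a := funext fun p => MvPolynomial.eval₂Hom_X' _ _ _
  have hfc : f c₀ = c := MvPolynomial.eval₂Hom_X' _ _ _
  have h := congrArg f huniv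
  rw [map_add, map_mul, map_cof, QuadGrpLib.map_hd, QuadGrpLib.map_hd, hfa, hfc] at h
  refine Eq.trans (congrArg _ ?_) h
  funext p
  rw [Function.comp_apply, Pi.add_apply, Pi.add_apply, map_add, ← hfa, Function.comp_apply]
  congr 1
  rcases eq_or_ne p (Sym2.mk i i) with rfl | hp
  · rw [Pi.single_eq_same, Pi.single_eq_same, hfc]
  · rw [Pi.single_eq_of_ne hp, Pi.single_eq_of_ne hp, map_zero]

/-- A null vector of the polar form with value zero kills the half-discriminant. -/
theorem hd_eq_zero_of_null {K : Type u} [Field K] {m : ℕ} (a : Sym2 (Fin (2 * m + 1)) → K)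
    (z : Fin (2 * m + 1) → K) (hz : z ≠ 0) (hP : QuadGrpLib.polarOf a *ᵥ z = 0)
    (hQ : z ⬝ᵥ (upMat a *ᵥ z) = 0) : QuadGrpLib.hd a = 0 := by
  classical
  obtain ⟨i, hi⟩ := Function.ne_iff.1 hz
  let φ : Fin (2 * m + 1) → K := Pi.single i (-(z i)⁻¹)
  let k : Matrix (Fin (2 * m + 1)) (Fin (2 * m + 1)) K := Matrix.vecMulVec z φ
  have hφ : φ ⬝ᵥ z = -1 := by
    rw [single_dotProduct, neg_mul, inv_mul_cancel₀ hi]
  have hdet : (1 + k).det = 0 := by
    refine Matrix.exists_mulVec_eq_zero_iff.1 ⟨z, hz, ?_⟩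
    rw [Matrix.add_mulVec, Matrix.one_mulVec, Matrix.vecMulVec_mulVec, hφ]
    funext r
    simp
  have hco : QuadGrpLib.co ((1 + k).transpose * upMat a * (1 + k)) = a := by
    have h0 : k.transpose * upMat a * k = 0 := by
      rw [Matrix.transpose_vecMulVec, Matrix.vecMulVec_mul, Matrix.vecMulVec_mul_vecMulVec,
        ← Matrix.dotProduct_mulVec, hQ]
      ext r s
      simp [Matrix.vecMulVec]
    rw [Matrix.transpose_add, Matrix.transpose_one,
      show (1 + k.transpose) * upMat a * (1 + k) =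
          upMat a + (k.transpose * upMat a + upMat a * k) + k.transpose * upMat a * k by noncomm_ring,
      h0, add_zero, co_add, co_add, ← co_transpose (k.transpose * upMat a), Matrix.transpose_mul,
      Matrix.transpose_transpose, ← co_add, ← Matrix.add_mul, add_comm (upMat a).transpose,
      upMat_add_transpose', Matrix.mul_vecMulVec, hP, co_upMat]
    have : (Matrix.vecMulVec (0 : Fin (2 * m + 1) → K) φ) = (0 : K) • Matrix.vecMulVec (0 : Fin (2 * m + 1) → K) φ := by
      ext r s; simp [Matrix.vecMulVec]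
    rw [this, co_smul, zero_smul, add_zero]
  have h := QuadGrpLib.hd_substitution (upMat a) (1 + k)
  rw [hco, hdet, co_upMat] at h
  rw [h]
  simp

theorem exists_cof_ne_zero {K : Type u} [Field K] {m : ℕ} (h2 : (2 : K) = 0)
    (a : Sym2 (Fin (2 * m + 1)) → K) (ha : QuadGrpLib.hd a ≠ 0) : ∃ i, cof a i ≠ 0 := by
  classical
  let L := AlgebraicClosure K
  let f : K →+* L := algebraMap K L
  suffices ∃ i, cof (f ∘ a) i ≠ 0 by
    obtain ⟨i, hi⟩ := this
    exact ⟨i, fun h => hi (by rw [← map_cof, h, map_zero])⟩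
  have hb : QuadGrpLib.hd (f ∘ a) ≠ 0 := by
    rw [← QuadGrpLib.map_hd]
    exact (map_ne_zero f).2 ha
  have h2L : (2 : L) = 0 := by rw [← map_ofNat f 2, h2, map_zero]
  set b : Sym2 (Fin (2 * m + 1)) → L := f ∘ a
  obtain ⟨w, hw, hPw⟩ := Matrix.exists_mulVec_eq_zero_iff.2
    (show (QuadGrpLib.polarOf b).det = 0 by rw [← QuadGrpLib.two_mul_hd ⟨m, rfl⟩, h2L, zero_mul])
  obtain ⟨i, hi⟩ := Function.ne_iff.1 hw
  refine ⟨i, fun hd0 => hb ?_⟩
  obtain ⟨u, hu, hQu⟩ := Matrix.exists_mulVec_eq_zero_iff.2 hd0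
  have hui : u i = 0 := by
    have := congrFun hQu i
    rwa [Matrix.mulVec, Matrix.updateRow_self, single_dotProduct, one_mul] at this
  have hrow : ∀ j, j ≠ i → (QuadGrpLib.polarOf b *ᵥ u) j = 0 := fun j hj => by
    have := congrFun hQu j
    rwa [Matrix.mulVec, Matrix.updateRow_ne hj] at this
  have hwu : w ⬝ᵥ (QuadGrpLib.polarOf b *ᵥ u) = 0 := by
    rw [Matrix.dotProduct_mulVec, ← Matrix.mulVec_transpose, polarOf_transpose, hPw, zero_dotProduct]
  have hPu : QuadGrpLib.polarOf b *ᵥ u = 0 := by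
    funext j
    rcases eq_or_ne j i with rfl | hj
    · rw [dotProduct, Finset.sum_eq_single j (fun r _ hr => by rw [hrow r hr, mul_zero])
        (fun h => absurd (Finset.mem_univ j) h)] at hwu
      exact (mul_eq_zero.1 hwu).resolve_left hi
    · exact hrow j hj
  set q : (Fin (2 * m + 1) → L) → L := fun x => x ⬝ᵥ (upMat b *ᵥ x) with hq
  obtain ⟨α, hα⟩ := IsAlgClosed.exists_eq_mul_self (q u)
  obtain ⟨β, hβ⟩ := IsAlgClosed.exists_eq_mul_self (q w)
  by_cases hα0 : α = 0
  · exact hd_eq_zero_of_null b u hu hPu (by rw [hα0, mul_zero] at hα; exact hα)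
  refine hd_eq_zero_of_null b (α • w + β • u) ?_ ?_ ?_
  · intro h
    have := congrFun h i
    simp [hui] at this
    exact this.elim hα0 hi
  · rw [Matrix.mulVec_add, Matrix.mulVec_smul, Matrix.mulVec_smul, hPw, hPu, smul_zero, smul_zero, add_zero]
  · have hB : w ⬝ᵥ (upMat b *ᵥ u) + u ⬝ᵥ (upMat b *ᵥ w) = 0 := by
      rw [← hwu, ← upMat_add_transpose' b, Matrix.add_mulVec, dotProduct_add, Matrix.mulVec_transpose,
        dotProduct_comm w (u ᵥ* upMat b), ← Matrix.dotProduct_mulVec u]
    simp only [hq] at hα hβ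
    simp only [Matrix.mulVec_add, Matrix.mulVec_smul, add_dotProduct, dotProduct_add, smul_dotProduct,
      dotProduct_smul, smul_eq_mul]
    linear_combination α * β * hB + α * α * hβ + β * β * hα + (α * α * (β * β)) * h2L

end OddIdentities

section OddSolve

variable {m : ℕ}

/-- The solvability of the linearised equations. -/
theorem exists_solve_odd (hI : I ^ 2 = ⊥) (a : Sym2 (Fin (2 * m + 1)) → A) (ha : IsUnit (QuadGrpLib.hd a))
    (δ : Sym2 (Fin (2 * m + 1)) → A) (hδ : ∀ p, δ p ∈ I)
    (hD : QuadGrpLib.hd (a + δ) = QuadGrpLib.hd a) :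
    ∃ k : Matrix (Fin (2 * m + 1)) (Fin (2 * m + 1)) A, (∀ i j, k i j ∈ I) ∧ k.trace = 0 ∧
      QuadGrpLib.co (QuadGrpLib.polarOf a * k) = δ := by
  classical
  set P := QuadGrpLib.polarOf a with hPdef
  let J : Ideal A :=
    { carrier := {r | ∃ k : Matrix (Fin (2 * m + 1)) (Fin (2 * m + 1)) A,
        (∀ i j, k i j ∈ I) ∧ k.trace = 0 ∧ QuadGrpLib.co (P * k) = r • δ}
      add_mem' := by
        rintro r s ⟨k, h1, h2, h3⟩ ⟨l, l1, l2, l3⟩
        exact ⟨k + l, fun i j => I.add_mem (h1 i j) (l1 i j), by rw [Matrix.trace_add, h2, l2, add_zero],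
          by rw [Matrix.mul_add, co_add, h3, l3, add_smul]⟩
      zero_mem' := ⟨0, fun _ _ => I.zero_mem, Matrix.trace_zero _ _, by
        rw [Matrix.mul_zero, zero_smul]
        have := co_smul (0 : A) (0 : Matrix (Fin (2 * m + 1)) (Fin (2 * m + 1)) A)
        rwa [zero_smul, zero_smul] at this⟩
      smul_mem' := by
        rintro c r ⟨k, h1, h2, h3⟩
        exact ⟨c • k, fun i j => I.mul_mem_left _ (h1 i j), by rw [Matrix.trace_smul, h2, smul_zero],
          by rw [Matrix.mul_smul, co_smul, h3, smul_smul]; rfl⟩ }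
  suffices J = ⊤ by
    obtain ⟨k, h1, h2, h3⟩ := (Ideal.eq_top_iff_one J).1 this
    exact ⟨k, h1, h2, by rwa [one_smul] at h3⟩
  have hlin : ∀ (r : A) (x y : Sym2 (Fin (2 * m + 1)) → A), (∀ p, x p ∈ I) → (∀ p, y p ∈ I) →
      QuadGrpLib.hd (a + (r • x + y)) - QuadGrpLib.hd a =
        r * (QuadGrpLib.hd (a + x) - QuadGrpLib.hd a) + (QuadGrpLib.hd (a + y) - QuadGrpLib.hd a) := by
    intro r x y hx hy
    have key : ∀ p : MvPolynomial (Sym2 (Fin (2 * m + 1))) ℤ,
        MvPolynomial.eval₂ (Int.castRingHom A) (a + x) p - MvPolynomial.eval₂ (Int.castRingHom A) a p ∈ I ∧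
        MvPolynomial.eval₂ (Int.castRingHom A) (a + y) p - MvPolynomial.eval₂ (Int.castRingHom A) a p ∈ I ∧
        MvPolynomial.eval₂ (Int.castRingHom A) (a + (r • x + y)) p - MvPolynomial.eval₂ (Int.castRingHom A) a p =
          r * (MvPolynomial.eval₂ (Int.castRingHom A) (a + x) p - MvPolynomial.eval₂ (Int.castRingHom A) a p) +
            (MvPolynomial.eval₂ (Int.castRingHom A) (a + y) p - MvPolynomial.eval₂ (Int.castRingHom A) a p) := by
      intro p
      induction p using MvPolynomial.induction_on with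
      | C c =>
        simp only [MvPolynomial.eval₂_C, sub_self, mul_zero, add_zero]
        exact ⟨I.zero_mem, I.zero_mem, trivial⟩
      | add p q hp hq =>
        simp only [MvPolynomial.eval₂_add]
        refine ⟨?_, ?_, by linear_combination hp.2.2 + hq.2.2⟩
        · rw [add_sub_add_comm]; exact I.add_mem hp.1 hq.1
        · rw [add_sub_add_comm]; exact I.add_mem hp.2.1 hq.2.1
      | mul_X p s hp =>
        simp only [MvPolynomial.eval₂_mul, MvPolynomial.eval₂_X, Pi.add_apply, Pi.smul_apply, smul_eq_mul]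
        set e := MvPolynomial.eval₂ (Int.castRingHom A) a p
        set ex := MvPolynomial.eval₂ (Int.castRingHom A) (a + x) p
        set ey := MvPolynomial.eval₂ (Int.castRingHom A) (a + y) p
        refine ⟨?_, ?_, ?_⟩
        · rw [show ex * (a s + x s) - e * a s = (ex - e) * a s + ex * x s by ring]
          exact I.add_mem (I.mul_mem_right _ hp.1) (I.mul_mem_left _ (hx s))
        · rw [show ey * (a s + y s) - e * a s = (ey - e) * a s + ey * y s by ring]
          exact I.add_mem (I.mul_mem_right _ hp.2.1) (I.mul_mem_left _ (hy s))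
        · have m1 : (ex - e) * x s = 0 := mul_eq_zero_of_mem hI hp.1 (hx s)
          have m2 : (ey - e) * y s = 0 := mul_eq_zero_of_mem hI hp.2.1 (hy s)
          have m3 : (ex - e) * y s = 0 := mul_eq_zero_of_mem hI hp.1 (hy s)
          have m4 : (ey - e) * x s = 0 := mul_eq_zero_of_mem hI hp.2.1 (hx s)
          linear_combination (a s + r * x s + y s) * hp.2.2 + (r * r - r) * m1 + r * m3 + r * m4
    exact (key _).2.2
  have hI0 : ∀ p, (0 : Sym2 (Fin (2 * m + 1)) → A) p ∈ I := fun _ => I.zero_mem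
  have htr : ∀ k : Matrix (Fin (2 * m + 1)) (Fin (2 * m + 1)) A, (∀ i j, k i j ∈ I) →
      QuadGrpLib.hd (a + QuadGrpLib.co (P * k)) = (1 + k.trace) ^ 2 * QuadGrpLib.hd a := by
    intro k hk
    have h := QuadGrpLib.hd_substitution (upMat a) (1 + k)
    rwa [co_perturb hI _ _ hk, upMat_add_transpose', co_upMat, det_one_add hI k hk] at h
  have hcoI : ∀ k : Matrix (Fin (2 * m + 1)) (Fin (2 * m + 1)) A, (∀ i j, k i j ∈ I) →
      ∀ p, QuadGrpLib.co (P * k) p ∈ I := by
    intro k hk p
    induction p using Sym2.ind with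
    | h i j =>
      rw [QuadGrpLib.co_mk]
      split_ifs
      · exact mul_mem_left_entries P hk _ _
      · exact I.add_mem (mul_mem_left_entries P hk _ _) (mul_mem_left_entries P hk _ _)
  -- twice the half-discriminant
  have hJ2 : 4 * QuadGrpLib.hd a ∈ J := by
    set k₁ := P.adjugate * upMat δ with hk₁
    have hk : ∀ i j, k₁ i j ∈ I := mul_mem_left_entries _ (upMat_mem hδ)
    have hco : QuadGrpLib.co (P * k₁) = (2 * QuadGrpLib.hd a) • δ := by
      rw [hk₁, ← Matrix.mul_assoc, Matrix.mul_adjugate, Matrix.smul_mul, Matrix.one_mul, co_smul, co_upMat,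
        QuadGrpLib.two_mul_hd ⟨m, rfl⟩]
    have h0 := htr k₁ hk
    rw [hco, show (2 * QuadGrpLib.hd a) • δ = (2 * QuadGrpLib.hd a) • δ + 0 from (add_zero _).symm] at h0
    have h1 := hlin (2 * QuadGrpLib.hd a) δ 0 hδ hI0
    rw [h0, hD, sub_self, mul_zero, zero_add, add_zero, sub_self] at h1
    have htI : k₁.trace ∈ I := Ideal.sum_mem _ fun i _ => hk i i
    have h3 : (2 : A) * k₁.trace = 0 := by
      refine ha.mul_left_eq_zero.1 ?_
      linear_combination h1 - QuadGrpLib.hd a * mul_eq_zero_of_mem hI htI htI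
    refine ⟨(2 : A) • k₁, fun i j => I.mul_mem_left _ (hk i j),
      by rw [Matrix.trace_smul, smul_eq_mul, h3], ?_⟩
    rw [Matrix.mul_smul, co_smul, hco, smul_smul]
    congr 1
    ring
  -- principal cofactors
  have hJc : ∀ i, cof a i ^ 4 ∈ J := by
    intro i
    set d := cof a i with hd
    set e : Fin (2 * m + 1) → A := Pi.single i 1 with he
    set Q' := P.updateRow i e with hQ'
    set X := Q'.adjugate with hX
    set r : Fin (2 * m + 1) → A := fun s => (P * X) i s - (d • (1 : Matrix (Fin (2 * m + 1)) (Fin (2 * m + 1)) A)) i s with hr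
    have hQX : Q' * X = d • 1 := Matrix.mul_adjugate Q'
    have hPX : P * X = d • 1 + Matrix.vecMulVec e r := by
      ext j s
      rcases eq_or_ne j i with rfl | hj
      · simp [Matrix.vecMulVec, he, hr]
      · have hv : Matrix.vecMulVec e r j s = 0 := by simp [Matrix.vecMulVec, he, Pi.single_eq_of_ne hj]
        rw [Matrix.add_apply, hv, add_zero, ← hQX, Matrix.mul_apply, Matrix.mul_apply]
        simp only [hQ', Matrix.updateRow_ne hj]
    have hXi : X i i = d := by
      have h := congrFun (congrFun hQX i) i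
      rw [Matrix.mul_apply] at h
      simp only [hQ', Matrix.updateRow_self, he, Pi.single_apply, ite_mul, one_mul, zero_mul,
        Finset.sum_ite_eq', Finset.mem_univ, if_true, Matrix.smul_apply, Matrix.one_apply_eq, smul_eq_mul,
        mul_one] at h
      exact h
    set v := r ᵥ* upMat δ with hv
    have hvI : ∀ j, v j ∈ I := fun j => show ∑ s, r s * upMat δ s j ∈ I from
      Ideal.sum_mem _ fun s _ => I.mul_mem_left _ (upMat_mem hδ s j)
    set k1 := d • (X * upMat δ) - Matrix.vecMulVec (X *ᵥ v) e with hk1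
    have hk1I : ∀ p q, k1 p q ∈ I := fun p q => I.sub_mem (I.mul_mem_left _ (mul_mem_left_entries _ (upMat_mem hδ) p q))
      (I.mul_mem_right _ (show ∑ s, X p s * v s ∈ I from Ideal.sum_mem _ fun s _ => I.mul_mem_left _ (hvI s)))
    have hee : ∀ c : A, QuadGrpLib.co (Matrix.vecMulVec (c • e) e) = Pi.single (Sym2.mk i i) c := by
      intro c
      funext p
      induction p using Sym2.ind with
      | h x y =>
        rw [QuadGrpLib.co_mk]
        rcases eq_or_ne (Sym2.mk x y) (Sym2.mk i i) with h | h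
        · rw [h, Pi.single_eq_same]
          obtain ⟨rfl, rfl⟩ : x = i ∧ y = i := by simpa using h
          simp [Matrix.vecMulVec, he]
        · rw [Pi.single_eq_of_ne h]
          have hz : ∀ x y, ¬(x = i ∧ y = i) → Matrix.vecMulVec (c • e) e x y = 0 := by
            intro x y hxy
            rcases not_and_or.1 hxy with h | h
            · simp [Matrix.vecMulVec, he, Pi.single_eq_of_ne h]
            · simp [Matrix.vecMulVec, he, Pi.single_eq_of_ne h]
          have h' : ¬(x = i ∧ y = i) := fun h' => h (by rw [h'.1, h'.2])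
          split_ifs with hxy
          · subst hxy; exact hz x x h'
          · rw [hz x y h', hz y x fun h'' => h' h''.symm, add_zero]
    have hP1 : QuadGrpLib.co (P * k1) = d ^ 2 • δ - Pi.single (Sym2.mk i i) (r ⬝ᵥ v) := by
      rw [hk1, Matrix.mul_sub, Matrix.mul_smul, ← Matrix.mul_assoc, hPX, Matrix.add_mul, Matrix.smul_mul,
        Matrix.one_mul, Matrix.vecMulVec_mul, ← hv, Matrix.mul_vecMulVec, Matrix.mulVec_mulVec, hPX,
        Matrix.add_mulVec, Matrix.smul_mulVec, Matrix.one_mulVec, Matrix.vecMulVec_mulVec, co_sub, co_smul,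
        co_add, co_smul, co_upMat, Matrix.add_vecMulVec, co_add, Matrix.smul_vecMulVec, co_smul,
        ← co_transpose (Matrix.vecMulVec v e), Matrix.transpose_vecMulVec]
      have : MulOpposite.op (r ⬝ᵥ v) • e = (r ⬝ᵥ v) • e := by funext s; simp [mul_comm]
      rw [this, hee, smul_add, smul_smul, ← pow_two]
      abel
    set T := k1.trace with hT
    have hTI : T ∈ I := Ideal.sum_mem _ fun s _ => hk1I s s
    set k2 := d • k1 - T • Matrix.vecMulVec (X *ᵥ e) e with hk2
    have hk2I : ∀ p q, k2 p q ∈ I := fun p q => I.sub_mem (I.mul_mem_left _ (hk1I p q)) (I.mul_mem_right _ hTI)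
    have htr2 : k2.trace = 0 := by
      rw [hk2, Matrix.trace_sub, Matrix.trace_smul, Matrix.trace_smul, Matrix.trace_vecMulVec]
      have : (X *ᵥ e) ⬝ᵥ e = d := by
        rw [he, Matrix.mulVec_single_one, dotProduct_single, mul_one]
        exact hXi
      rw [this, smul_eq_mul, smul_eq_mul]
      ring
    set c' := -(d * (r ⬝ᵥ v)) - T * (d + r i) with hc'
    have hP2 : QuadGrpLib.co (P * k2) = d ^ 3 • δ + Pi.single (Sym2.mk i i) c' := by
      have hw : P *ᵥ (X *ᵥ e) = (d + r i) • e := by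
        rw [Matrix.mulVec_mulVec, hPX, Matrix.add_mulVec, Matrix.smul_mulVec, Matrix.one_mulVec,
          Matrix.vecMulVec_mulVec, he, dotProduct_single, mul_one]
        funext s
        simp [add_mul]
      rw [hk2, Matrix.mul_sub, Matrix.mul_smul, Matrix.mul_smul, Matrix.mul_vecMulVec, hw, co_sub, co_smul,
        co_smul, hP1, hee, smul_sub, smul_smul, ← pow_succ', hc', ← Pi.single_smul, ← Pi.single_smul,
        smul_eq_mul, smul_eq_mul, sub_sub, ← Pi.single_add, sub_eq_add_neg, ← Pi.single_neg]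
      congr 2
      ring
    have hcI : ∀ p, (Pi.single (Sym2.mk i i) c' : Sym2 (Fin (2 * m + 1)) → A) p ∈ I := by
      intro p
      have hc : c' ∈ I := I.sub_mem (I.neg_mem (I.mul_mem_left _ (Ideal.sum_mem _ fun s _ => I.mul_mem_left _ (hvI s))))
        (I.mul_mem_right _ hTI)
      rcases eq_or_ne p (Sym2.mk i i) with rfl | hp
      · rwa [Pi.single_eq_same]
      · rw [Pi.single_eq_of_ne hp]; exact I.zero_mem
    have hzero : c' * d = 0 := by
      have h0 := htr k2 hk2I
      rw [hP2, htr2, add_zero, one_pow, one_mul] at h0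
      have h1 := hlin (d ^ 3) δ _ hδ hcI
      rw [h0, hD, sub_self, mul_zero, zero_add, hd_add_single ⟨m, rfl⟩, add_sub_cancel_left] at h1
      exact h1.symm
    refine ⟨d • k2, fun p q => I.mul_mem_left _ (hk2I p q), by rw [Matrix.trace_smul, htr2, smul_zero], ?_⟩
    rw [Matrix.mul_smul, co_smul, hP2, smul_add, smul_smul, ← Pi.single_smul, smul_eq_mul,
      mul_comm d c', hzero, Pi.single_zero, add_zero]
    congr 1
    ring
  by_contra hJ
  obtain ⟨p, hp, hJp⟩ := Ideal.exists_le_maximal J hJ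
  letI := Ideal.Quotient.field p
  have hd0 : Ideal.Quotient.mk p (QuadGrpLib.hd a) ≠ 0 := fun h =>
    hp.ne_top (Ideal.eq_top_of_isUnit_mem _ (Ideal.Quotient.eq_zero_iff_mem.1 h) ha)
  have h4 : Ideal.Quotient.mk p (4 * QuadGrpLib.hd a) = 0 := Ideal.Quotient.eq_zero_iff_mem.2 (hJp hJ2)
  have h2 : (2 : A ⧸ p) = 0 := by
    rw [map_mul, map_ofNat] at h4
    have h22 : (2 : A ⧸ p) * 2 = 0 := by linear_combination (mul_eq_zero.1 h4).resolve_right hd0
    exact (mul_eq_zero.1 h22).elim id id
  rw [QuadGrpLib.map_hd] at hd0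
  obtain ⟨i, hi⟩ := exists_cof_ne_zero h2 _ hd0
  refine hi ?_
  rw [← map_cof]
  refine Ideal.Quotient.eq_zero_iff_mem.2 (hp.isPrime.mem_of_pow_mem 4 (hJp (hJc i)))

/-- Lifting matrices of determinant one in odd size. -/
theorem exists_lift_odd (hI : I ^ 2 = ⊥) (a : Sym2 (Fin (2 * m + 1)) → A) (ha : IsUnit (QuadGrpLib.hd a))
    (gb : Matrix (Fin (2 * m + 1)) (Fin (2 * m + 1)) (A ⧸ I)) (h : IsIsom (Ideal.Quotient.mk I ∘ a) gb)
    (hdet : gb.det = 1) :
    ∃ g, IsIsom a g ∧ g.det = 1 ∧ g.map (Ideal.Quotient.mk I) = gb := by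
  classical
  obtain ⟨g₀, hg₀, hu₀, -⟩ := exists_lift_matrix a gb hI h
  obtain ⟨s, hs⟩ := hu₀
  let g := g₀ * Matrix.diagonal (Function.update (fun _ => (1 : A)) 0 (↑s⁻¹ : A))
  have hs1 : Ideal.Quotient.mk I (↑s⁻¹ : A) = 1 := by
    have h1 : Ideal.Quotient.mk I (↑s : A) = 1 := by
      rw [hs, RingHom.map_det, RingHom.mapMatrix_apply, hg₀, hdet]
    have := congrArg (Ideal.Quotient.mk I) s.mul_inv
    rwa [map_mul, h1, one_mul, map_one] at this
  have hg : g.map (Ideal.Quotient.mk I) = gb := by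
    have : (Matrix.diagonal (Function.update (fun _ => (1 : A)) 0 (↑s⁻¹ : A))).map (Ideal.Quotient.mk I) =
        (1 : Matrix (Fin (2 * m + 1)) (Fin (2 * m + 1)) (A ⧸ I)) := by
      ext i j
      rw [Matrix.map_apply]
      rcases eq_or_ne i j with rfl | hij
      · rw [Matrix.diagonal_apply_eq, Matrix.one_apply_eq]
        rcases eq_or_ne i 0 with rfl | hi
        · rw [Function.update_self, hs1]
        · rw [Function.update_of_ne hi, map_one]
      · rw [Matrix.diagonal_apply_ne _ hij, Matrix.one_apply_ne hij, map_zero]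
    rw [Matrix.map_mul, hg₀, this, Matrix.mul_one]
  have hgd : g.det = 1 := by
    rw [Matrix.det_mul, Matrix.det_diagonal, Finset.prod_update_of_mem (Finset.mem_univ _),
      Finset.prod_const_one, mul_one, ← hs, Units.mul_inv]
  have hu : IsUnit g.det := hgd ▸ isUnit_one
  set a' := QuadGrpLib.co (g.transpose * upMat a * g) with ha'
  have hδ : ∀ p, (a - a') p ∈ I := by
    intro p
    refine Ideal.Quotient.eq_zero_iff_mem.1 ?_
    have h2 := congrFun (QuadGrpLib.map_co (Ideal.Quotient.mk I) (g.transpose * upMat a * g)) p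
    have h3 : (g.transpose * upMat a * g).map (Ideal.Quotient.mk I) =
        gb.transpose * upMat (Ideal.Quotient.mk I ∘ a) * gb := by
      rw [Matrix.map_mul, Matrix.map_mul, Matrix.transpose_map, hg, QuadSplitLib.map_upMat (Ideal.Quotient.mk I) a]
    rw [h3, h.2] at h2
    rw [Pi.sub_apply, map_sub]
    exact sub_eq_zero.2 h2.symm
  have hhd : QuadGrpLib.hd a' = QuadGrpLib.hd a := by
    rw [ha', QuadGrpLib.hd_substitution, hgd, one_pow, one_mul, co_upMat]
  obtain ⟨k, hk, htk, hco⟩ := exists_solve_odd hI a' (hhd ▸ ha) (a - a') hδ (by rw [add_sub_cancel, hhd])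
  refine ⟨g * (1 + k), isom_correct hI a g k hu hk hco, ?_, by rw [map_mk_mul_one_add g k hk, hg]⟩
  rw [Matrix.det_mul, hgd, one_mul, det_one_add hI k hk, htk, add_zero]

end OddSolve

/-- When two is invertible lifts of isometries of determinant one have determinant one. -/
theorem det_eq_one_of_lift (hI : I ^ 2 = ⊥) (h2 : IsUnit (2 : A)) (a : Sym2 (Fin n) → A)
    (ha : IsUnit (QuadGrpLib.polarOf a).det) {g : Matrix (Fin n) (Fin n) A} (hg : IsIsom a g)
    (h1 : (g.map (Ideal.Quotient.mk I)).det = 1) : g.det = 1 := by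
  have h := congrArg (fun b => (QuadGrpLib.polarOf b).det) hg.2
  simp only [QuadGrpLib.polarOf_co] at h
  rw [show g.transpose * upMat a * g + (g.transpose * upMat a * g).transpose =
    g.transpose * (upMat a + (upMat a).transpose) * g by
      rw [Matrix.transpose_mul, Matrix.transpose_mul, Matrix.transpose_transpose, Matrix.mul_add,
        Matrix.add_mul, Matrix.mul_assoc g.transpose (upMat a).transpose],
    upMat_add_transpose', Matrix.det_mul, Matrix.det_mul, Matrix.det_transpose] at h
  have hm : g.det - 1 ∈ I := by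
    refine Ideal.Quotient.eq_zero_iff_mem.1 ?_
    rw [map_sub, map_one, RingHom.map_det, RingHom.mapMatrix_apply, h1, sub_self]
  have hu : IsUnit (g.det + 1) := isUnit_of_sub_mem hI h2 (by rwa [show g.det + 1 - 2 = g.det - 1 by ring])
  have h' : (g.det + 1) * (g.det - 1) * (QuadGrpLib.polarOf a).det = 0 := by linear_combination h
  exact sub_eq_zero.1 (hu.mul_right_eq_zero.1 (ha.mul_left_eq_zero.1 h'))

end Groth.Agent.QuadSchemeLib
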