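import Groth.Agent.QuadSchemeLib.Points
import Groth.Agent.QuadSchemeLib.Lift
import Groth.Agent.QuadSplitLib.BaseChangeForm
import Mathlib.LinearAlgebra.Matrix.ToLinearEquiv

/-!
# Orthogonal group schemes as matrices
-/

set_option autoImplicit false
set_option backward.isDefEq.respectTransparency false

universe u

open CategoryTheory AlgebraicGeometry TensorProduct
open MonObj
open Groth.Agent.CliffRegLib

namespace Groth.Agent.QuadSchemeLib

variable {n : ℕ} {R : Type u} [CommRing R]

/-- The basis of the extended coordinate module. -/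
noncomputable abbrev bA (A : Type u) [CommRing A] [Algebra R A] :
    Module.Basis (Fin n) A (A ⊗[R] (Fin n → R)) :=
  (Pi.basisFun R (Fin n)).baseChange A

lemma coordEquiv_eq (A : Type u) [CommRing A] [Algebra R A] (x : A ⊗[R] (Fin n → R)) :
    QuadSplitLib.coordEquiv A x = (bA A).equivFun x := by
  have h : (QuadSplitLib.coordEquiv (n := n) A).toLinearMap = (bA (R := R) A).equivFun.toLinearMap := by
    refine (bA (R := R) A).ext fun i => ?_
    rw [LinearEquiv.coe_coe, LinearEquiv.coe_coe, Module.Basis.baseChange_apply, QuadSplitLib.coordEquiv_tmul]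
    funext j
    rw [Module.Basis.equivFun_apply, Module.Basis.baseChange_repr_tmul, QuadSplitLib.ev_apply,
      Pi.basisFun_repr, Algebra.algebraMap_eq_smul_one]
  exact DFunLike.congr_fun h x

lemma baseChange_eq_iff (A : Type u) [CommRing A] [Algebra R A] (Q : QuadraticForm R (Fin n → R))
    (x y : A ⊗[R] (Fin n → R)) :
    QuadGrp.baseChange A Q x = QuadGrp.baseChange A Q y ↔
      qf (algebraMap R A ∘ QuadGrp.coeffs (Pi.basisFun R (Fin n)) (LinearEquiv.refl R R) Q) ((bA A).equivFun x) =
      qf (algebraMap R A ∘ QuadGrp.coeffs (Pi.basisFun R (Fin n)) (LinearEquiv.refl R R) Q) ((bA A).equivFun y) := by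
  have h : ∀ z, qf (algebraMap R A ∘ QuadGrp.coeffs (Pi.basisFun R (Fin n)) (LinearEquiv.refl R R) Q)
      ((bA A).equivFun z) = AlgebraTensorModule.rid R A A (QuadGrp.baseChange A Q z) := fun z => by
    rw [← coordEquiv_eq]
    exact (QuadSplitLib.baseChangeForm_eq A Q z).symm
  rw [h, h]
  exact (AlgebraTensorModule.rid R A A).injective.eq_iff.symm

/-- Isometries are matrices preserving the table. -/
lemma mem_orth_iff (A : Type u) [CommRing A] [Algebra R A] (Q : QuadraticForm R (Fin n → R))
    (g : (A ⊗[R] (Fin n → R)) ≃ₗ[A] (A ⊗[R] (Fin n → R))) :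
    g ∈ QuadGrp.orth Q A ↔
      IsIsom (algebraMap R A ∘ QuadGrp.coeffs (Pi.basisFun R (Fin n)) (LinearEquiv.refl R R) Q)
        (LinearMap.toMatrix (bA A) (bA A) g.toLinearMap) := by
  set a := algebraMap R A ∘ QuadGrp.coeffs (Pi.basisFun R (Fin n)) (LinearEquiv.refl R R) Q with ha
  set G := LinearMap.toMatrix (bA A) (bA A) g.toLinearMap with hG
  have hvec : ∀ x, (bA A).equivFun (g x) = Matrix.mulVec G ((bA A).equivFun x) := fun x =>
    (LinearMap.toMatrix_mulVec_repr (bA A) (bA A) g.toLinearMap x).symm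
  change (∀ v, QuadGrp.baseChange A Q (g v) = QuadGrp.baseChange A Q v) ↔ _
  simp only [baseChange_eq_iff, ← ha, hvec]
  have hdet : IsUnit G.det := by
    rw [hG, LinearMap.det_toMatrix]; exact g.isUnit_det'
  have hcomp : ∀ w, qf (QuadGrpLib.co (G.transpose * upMat a * G)) w = qf a (Matrix.mulVec G w) := fun w => by
    rw [qf_co, ← Matrix.toBilin'_comp (upMat a) G G, LinearMap.BilinMap.toQuadraticMap_apply,
      LinearMap.BilinForm.comp_apply, Matrix.toLin'_apply]
    rfl
  constructor
  · intro h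
    refine ⟨hdet, ?_⟩
    have : qf (QuadGrpLib.co (G.transpose * upMat a * G)) = qf a := QuadraticMap.ext fun w => by
      obtain ⟨v, rfl⟩ := (bA (R := R) A).equivFun.surjective w
      rw [hcomp, h]
    rw [← coeffs_qf (QuadGrpLib.co _), this, coeffs_qf]
  · intro h v
    rw [← hcomp, h.2]

lemma repr_rTensor {A A' : Type u} [CommRing A] [Algebra R A] [CommRing A'] [Algebra R A']
    (φ : A →ₐ[R] A') (z : A ⊗[R] (Fin n → R)) (i : Fin n) :
    (bA A').repr (LinearMap.rTensor (Fin n → R) φ.toLinearMap z) i = φ ((bA A).repr z i) := by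
  induction z using TensorProduct.induction_on with
  | zero => simp
  | tmul c v => simp [Module.Basis.baseChange_repr_tmul]
  | add x y hx hy => simp [map_add, hx, hy]

section Model

variable (Q : QuadraticForm R (Fin n → R))

/-- The universal matrix. -/
noncomputable def univMat : Matrix (Fin n) (Fin n) (MvPolynomial (Option (Fin n × Fin n)) R) :=
  Matrix.of fun i j => MvPolynomial.X (some (i, j))

/-- The matrix of a point. -/
def matOf {A : Type u} (x : Option (Fin n × Fin n) → A) : Matrix (Fin n) (Fin n) A :=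
  Matrix.of fun i j => x (some (i, j))

open Classical in
/-- The equations of the orthogonal group, possibly with determinant one. -/
noncomputable def eqns (special : Bool) : Finset (MvPolynomial (Option (Fin n × Fin n)) R) :=
  (Finset.univ.image fun p =>
    QuadGrpLib.co ((univMat).transpose *
      upMat (algebraMap R _ ∘ QuadGrp.coeffs (Pi.basisFun R (Fin n)) (LinearEquiv.refl R R) Q) * univMat) p -
      algebraMap R _ (QuadGrp.coeffs (Pi.basisFun R (Fin n)) (LinearEquiv.refl R R) Q p)) ∪
  {(univMat (R := R) (n := n)).det * MvPolynomial.X none - 1} ∪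
  (if special then {(univMat (R := R) (n := n)).det - 1} else ∅)

lemma eqns_iff {A : Type u} [CommRing A] [Algebra R A] (special : Bool) (x : Option (Fin n × Fin n) → A) :
    (∀ p ∈ eqns Q special, MvPolynomial.aeval x p = 0) ↔
      IsIsom (algebraMap R A ∘ QuadGrp.coeffs (Pi.basisFun R (Fin n)) (LinearEquiv.refl R R) Q) (matOf x) ∧
        (matOf x).det * x none = 1 ∧ (special = true → (matOf x).det = 1) := by
  classical
  set a := QuadGrp.coeffs (Pi.basisFun R (Fin n)) (LinearEquiv.refl R R) Q with ha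
  set f : MvPolynomial (Option (Fin n × Fin n)) R →+* A := (MvPolynomial.aeval x).toRingHom with hf
  have hX : (univMat (R := R) (n := n)).map f = matOf x := Matrix.ext fun i j => MvPolynomial.aeval_X _ _
  have hdet : MvPolynomial.aeval x (univMat (R := R) (n := n)).det = (matOf x).det := by
    rw [← hX]
    exact f.map_det _
  have hco : ∀ p, MvPolynomial.aeval x (QuadGrpLib.co ((univMat).transpose *
      upMat (algebraMap R (MvPolynomial (Option (Fin n × Fin n)) R) ∘ a) * univMat) p) =
      QuadGrpLib.co ((matOf x).transpose * upMat (algebraMap R A ∘ a) * matOf x) p := by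
    intro p
    have h := congrFun (QuadGrpLib.map_co f ((univMat).transpose *
      upMat (algebraMap R (MvPolynomial (Option (Fin n × Fin n)) R) ∘ a) * univMat)) p
    rw [Matrix.map_mul, Matrix.map_mul, Matrix.transpose_map, hX, QuadSplitLib.map_upMat f,
      ← Function.comp_assoc] at h
    rw [show (⇑f ∘ ⇑(algebraMap R (MvPolynomial (Option (Fin n × Fin n)) R))) = ⇑(algebraMap R A) from
      funext fun r => (MvPolynomial.aeval x).commutes r] at h
    exact h
  simp only [eqns, Finset.mem_union, Finset.mem_image, Finset.mem_univ, true_and, Finset.mem_singleton,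
    ← ha]
  constructor
  · intro h
    have h1 := h _ (Or.inl (Or.inr rfl))
    rw [map_sub, map_mul, hdet, MvPolynomial.aeval_X, map_one, sub_eq_zero] at h1
    refine ⟨⟨IsUnit.of_mul_eq_one _ h1, funext fun p => ?_⟩, h1, fun hs => ?_⟩
    · have h2 := h _ (Or.inl (Or.inl ⟨p, rfl⟩))
      rwa [map_sub, hco, AlgHom.commutes, sub_eq_zero] at h2
    · have h2 := h _ (Or.inr (by rw [if_pos hs]; exact Finset.mem_singleton_self _))
      rwa [map_sub, hdet, map_one, sub_eq_zero] at h2
  · rintro ⟨⟨-, h2⟩, h1, h3⟩ q ((⟨p, rfl⟩ | rfl) | hq)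
    · rw [map_sub, hco, AlgHom.commutes, h2, Function.comp_apply, sub_self]
    · rw [map_sub, map_mul, hdet, MvPolynomial.aeval_X, map_one, h1, sub_self]
    · cases special
      · simp at hq
      · rw [if_pos rfl, Finset.mem_singleton] at hq
        subst hq
        rw [map_sub, hdet, map_one, h3 rfl, sub_self]

/-- The matrix coordinates of an automorphism. -/
noncomputable def coordsOf {A : Type u} [CommRing A] [Algebra R A]
    (g : (A ⊗[R] (Fin n → R)) ≃ₗ[A] (A ⊗[R] (Fin n → R))) : Option (Fin n × Fin n) → A :=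
  fun o => o.elim ((LinearEquiv.det g⁻¹ : Aˣ) : A)
    (fun p => LinearMap.toMatrix (bA A) (bA A) g.toLinearMap p.1 p.2)

variable {Q} {G : Over (Spec (CommRingCat.of R))} [GrpObj G]

/-- The polynomial model of a linear group functor given by these equations. -/
theorem exists_model (special : Bool)
    (S : ∀ (A : Type u) [CommRing A] [Algebra R A], Subgroup ((A ⊗[R] (Fin n → R)) ≃ₗ[A] (A ⊗[R] (Fin n → R))))
    (D : QuadGrp.LinRep R (Fin n → R) S G)
    (hS : ∀ (A : Type u) [CommRing A] [Algebra R A] (g : (A ⊗[R] (Fin n → R)) ≃ₗ[A] (A ⊗[R] (Fin n → R))),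
      g ∈ S A ↔ g ∈ QuadGrp.orth Q A ∧ (special = true → LinearEquiv.det g = 1)) :
    Nonempty (Model G (Option (Fin n × Fin n)) (eqns Q special)) := by
  classical
  have hmat : ∀ (A : Type u) [CommRing A] [Algebra R A] (g : (A ⊗[R] (Fin n → R)) ≃ₗ[A] (A ⊗[R] (Fin n → R))),
      matOf (coordsOf g) = LinearMap.toMatrix (bA A) (bA A) g.toLinearMap := fun A _ _ g => Matrix.ext fun i j => rfl
  have hdet : ∀ (A : Type u) [CommRing A] [Algebra R A] (g : (A ⊗[R] (Fin n → R)) ≃ₗ[A] (A ⊗[R] (Fin n → R))),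
      (matOf (coordsOf g)).det = ((LinearEquiv.det g : Aˣ) : A) := fun A _ _ g => by
    rw [hmat, LinearMap.det_toMatrix, LinearEquiv.coe_det]
  refine ⟨{ crd := fun A _ _ y => coordsOf (D.pts A y).1, zero := ?_, inj := ?_, surj := ?_, natural := ?_ }⟩
  · intro A _ _ y
    obtain ⟨h1, h2⟩ := (hS A _).1 (D.pts A y).2
    refine (eqns_iff Q special _).2 ⟨?_, ?_, fun hs => ?_⟩
    · rw [hmat]; exact (mem_orth_iff A Q _).1 h1
    · rw [hdet]
      change _ * ((LinearEquiv.det (D.pts A y).1⁻¹ : Aˣ) : A) = 1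
      rw [map_inv, Units.mul_inv]
    · rw [hdet, h2 hs, Units.val_one]
  · intro A _ _ y y' h
    refine (D.pts A).injective (Subtype.ext (LinearEquiv.toLinearMap_injective
      ((LinearMap.toMatrix (bA A) (bA A)).injective (Matrix.ext fun i j => congrFun h (some (i, j))))))
  · intro A _ _ x hx
    obtain ⟨h1, h2, h3⟩ := (eqns_iff Q special x).1 hx
    obtain ⟨g, hg⟩ : ∃ g : (A ⊗[R] (Fin n → R)) ≃ₗ[A] (A ⊗[R] (Fin n → R)),
        LinearMap.toMatrix (bA A) (bA A) g.toLinearMap = matOf x :=
      ⟨Matrix.toLinearEquiv (bA (R := R) A) (matOf x) h1.1, LinearMap.toMatrix_toLin _ _ _⟩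
    have hgd : ((LinearEquiv.det g : Aˣ) : A) = (matOf x).det := by
      rw [LinearEquiv.coe_det, ← LinearMap.det_toMatrix (bA (R := R) A), hg]
    have hmem : g ∈ S A := (hS A g).2 ⟨(mem_orth_iff A Q g).2 (by rw [hg]; exact h1),
      fun hs => Units.ext (by rw [hgd, h3 hs, Units.val_one])⟩
    refine ⟨(D.pts A).symm ⟨g, hmem⟩, ?_⟩
    rw [MulEquiv.apply_symm_apply]
    funext o
    rcases o with - | ⟨i, j⟩
    · change ((LinearEquiv.det g⁻¹ : Aˣ) : A) = x none
      rw [map_inv]
      exact Units.inv_eq_of_mul_eq_one_right (by rw [hgd]; exact h2)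
    · exact congrFun (congrFun hg i) j
  · intro A A' _ _ _ _ φ y
    have hentry : ∀ i j, LinearMap.toMatrix (bA A') (bA A') (D.pts A' (QuadGrp.specOverMap R φ ≫ y)).1.toLinearMap i j =
        φ (LinearMap.toMatrix (bA A) (bA A) (D.pts A y).1.toLinearMap i j) := fun i j => by
      rw [LinearMap.toMatrix_apply, LinearMap.toMatrix_apply, Module.Basis.baseChange_apply,
        Module.Basis.baseChange_apply, LinearEquiv.coe_coe, LinearEquiv.coe_coe, D.natural, repr_rTensor]
    funext o
    rcases o with - | ⟨i, j⟩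
    · change ((LinearEquiv.det (D.pts A' (QuadGrp.specOverMap R φ ≫ y)).1⁻¹ : A'ˣ) : A') =
        φ ((LinearEquiv.det (D.pts A y).1⁻¹ : Aˣ) : A)
      rw [map_inv, map_inv]
      change _ = ((Units.map (φ : A →* A') (LinearEquiv.det (D.pts A y).1)⁻¹ : A'ˣ) : A')
      rw [map_inv]
      congr 2
      refine Units.ext ?_
      rw [Units.coe_map, ← hdet, ← hdet]
      change _ = φ _
      rw [show φ (matOf (coordsOf (D.pts A y).1)).det = ((matOf (coordsOf (D.pts A y).1)).map φ).det from
        φ.map_det _]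
      congr 1
      refine Matrix.ext fun i j => ?_
      rw [Matrix.map_apply, hmat, hmat]
      exact hentry i j
    · exact hentry i j

theorem exists_model_orth (D : QuadGrp.OrthRep Q G) :
    Nonempty (Model G (Option (Fin n × Fin n)) (eqns Q false)) :=
  exists_model false _ D fun A _ _ g => ⟨fun h => ⟨h, by simp⟩, fun h => h.1⟩

theorem exists_model_sorth' (D : QuadGrp.SOrth'Rep Q G) :
    Nonempty (Model G (Option (Fin n × Fin n)) (eqns Q true)) :=
  exists_model true _ D fun A _ _ g => ⟨fun h => ⟨h.1, fun _ => MonoidHom.mem_ker.1 h.2⟩,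
    fun h => ⟨h.1, MonoidHom.mem_ker.2 (h.2 rfl)⟩⟩

/-- The lifting of an isometry gives the lifting of coordinates. -/
theorem lifts_of (special : Bool)
    (h : ∀ (A : Type u) [CommRing A] [Algebra R A] (I : Ideal A), I ^ 2 = ⊥ →
      ∀ gb : Matrix (Fin n) (Fin n) (A ⧸ I),
        IsIsom (Ideal.Quotient.mk I ∘ (algebraMap R A ∘ QuadGrp.coeffs (Pi.basisFun R (Fin n)) (LinearEquiv.refl R R) Q)) gb →
        (special = true → gb.det = 1) →
        ∃ g, IsIsom (algebraMap R A ∘ QuadGrp.coeffs (Pi.basisFun R (Fin n)) (LinearEquiv.refl R R) Q) g ∧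
          (special = true → g.det = 1) ∧ g.map (Ideal.Quotient.mk I) = gb) :
    Lifts (eqns Q special) := by
  intro A _ _ I hI x hx
  obtain ⟨h1, h2, h3⟩ := (eqns_iff Q special x).1 hx
  obtain ⟨g, hg1, hg2, hg3⟩ := h A I hI (matOf x) h1 h3
  refine ⟨fun o => o.elim (↑hg1.1.unit⁻¹ : A) (fun p => g p.1 p.2),
    (eqns_iff Q special _).2 ⟨hg1, IsUnit.mul_val_inv hg1.1, hg2⟩, funext fun o => ?_⟩
  rcases o with - | ⟨i, j⟩
  · refine h1.1.mul_left_cancel (Eq.trans ?_ h2.symm)
    change (matOf x).det * Ideal.Quotient.mk I (↑hg1.1.unit⁻¹ : A) = 1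
    rw [← hg3, ← RingHom.mapMatrix_apply, ← RingHom.map_det, ← map_mul, IsUnit.mul_val_inv, map_one]
  · exact congrFun (congrFun hg3 i) j

end Model

end Groth.Agent.QuadSchemeLib
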