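import Groth.Prelude.Def_QuadGrp2
import Mathlib.AlgebraicGeometry.Morphisms.Smooth
import Mathlib.RingTheory.Smooth.Basic
import Mathlib.RingTheory.FinitePresentation

/-!
# Schemes over an affine base whose affine points are the zeros of finitely many polynomials
-/

set_option autoImplicit false
set_option backward.isDefEq.respectTransparency false

universe u

open CategoryTheory Limits AlgebraicGeometry

namespace Groth.Agent.QuadSchemeLib

variable {R : Type u} [CommRing R] {G : Over (Spec (CommRingCat.of R))}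

/-- A map from an affine scheme which is bijective on affine points is an isomorphism. -/
theorem isIso_of_points {B : Type u} [CommRing B] [Algebra R B] (f : QuadGrp.specOver R B ⟶ G)
    (h : ∀ (A : Type u) [CommRing A] [Algebra R A],
      Function.Bijective fun ψ : B →ₐ[R] A => QuadGrp.specOverMap R ψ ≫ f) : IsIso f.left := by
  have hpts : ∀ (A : Type u) [CommRing A] (g : Spec (CommRingCat.of A) ⟶ Spec (CommRingCat.of B)),
      ∀ (_ : Algebra R A), Spec.map (CommRingCat.ofHom (algebraMap R A)) = g ≫ (QuadGrp.specOver R B).hom →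
        ∃ ψ : B →ₐ[R] A, g = Spec.map (CommRingCat.ofHom ψ.toRingHom) := by
    intro A _ g _ hg
    obtain ⟨φ, rfl⟩ := Spec.map_surjective g
    have h1 : CommRingCat.ofHom (algebraMap R A) = CommRingCat.ofHom (algebraMap R B) ≫ φ := by
      apply Spec.map_injective
      rw [hg, Spec.map_comp]
      rfl
    exact ⟨⟨φ.hom, fun r => (congr($(h1).hom r)).symm⟩, rfl⟩
  have hmono : Mono f.left := by
    refine ⟨fun {T} g₁ g₂ hg => ?_⟩
    refine Scheme.Cover.hom_ext T.affineCover _ _ fun i => ?_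
    obtain ⟨A, e⟩ : ∃ A : CommRingCat.{u}, Nonempty (Spec A ≅ T.affineCover.X i) :=
      ⟨_, ⟨(Scheme.isoSpec _).symm⟩⟩
    obtain ⟨e⟩ := e
    rw [← cancel_epi e.hom, ← Category.assoc, ← Category.assoc]
    set a₁ := (e.hom ≫ T.affineCover.f i) ≫ g₁ with ha₁
    set a₂ := (e.hom ≫ T.affineCover.f i) ≫ g₂ with ha₂
    have ha : a₁ ≫ f.left = a₂ ≫ f.left := by simp only [ha₁, ha₂, Category.assoc, hg]
    obtain ⟨ρ, hρ⟩ := Spec.map_surjective (a₁ ≫ (QuadGrp.specOver R B).hom)
    letI : Algebra R A := ρ.hom.toAlgebra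
    have e₁ : Spec.map (CommRingCat.ofHom (algebraMap R A)) = a₁ ≫ (QuadGrp.specOver R B).hom := hρ
    have e₂ : Spec.map (CommRingCat.ofHom (algebraMap R A)) = a₂ ≫ (QuadGrp.specOver R B).hom := by
      rw [e₁, ← Over.w f, reassoc_of% ha]
    obtain ⟨ψ₁, hψ₁⟩ := hpts A a₁ inferInstance e₁
    obtain ⟨ψ₂, hψ₂⟩ := hpts A a₂ inferInstance e₂
    have hψ : ψ₁ = ψ₂ := (h A).1 (Over.OverMorphism.ext (by
      simp only [Over.comp_left, QuadGrp.specOverMap, Over.homMk_left]
      rw [← hψ₁, ← hψ₂, ha]))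
    rw [hψ₁, hψ₂, hψ]
  change (MorphismProperty.isomorphisms Scheme) f.left
  rw [IsZariskiLocalAtTarget.iff_of_iSup_eq_top (P := MorphismProperty.isomorphisms Scheme) _
    (iSup_affineOpens_eq_top G.left)]
  rintro ⟨U, hU⟩
  change IsIso (f.left ∣_ U)
  haveI : Mono (f.left ∣_ U) :=
    MorphismProperty.of_isPullback (P := MorphismProperty.monomorphisms Scheme)
      (isPullback_morphismRestrict f.left U).flip hmono
  obtain ⟨ρ, hρ⟩ := Spec.map_surjective (hU.fromSpec ≫ G.hom)
  letI : Algebra R Γ(G.left, U) := ρ.hom.toAlgebra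
  let y : QuadGrp.specOver R Γ(G.left, U) ⟶ G := Over.homMk hU.fromSpec hρ.symm
  obtain ⟨ψ, hψ⟩ := (h Γ(G.left, U)).2 y
  have hψ' := congrArg CommaMorphism.left hψ
  simp only [Over.comp_left, QuadGrp.specOverMap, Over.homMk_left, y] at hψ'
  let s : (U : Scheme.{u}) ⟶ (f.left ⁻¹ᵁ U : Scheme.{u}) :=
    (isPullback_morphismRestrict f.left U).lift (𝟙 _) (hU.isoSpec.hom ≫ Spec.map (CommRingCat.ofHom ψ.toRingHom))
      (by
        change 𝟙 _ ≫ U.ι = _
        rw [Category.id_comp, Category.assoc]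
        refine Eq.trans ?_ (congrArg _ hψ'.symm)
        exact (hU.isoSpec_hom_fromSpec).symm)
  haveI : IsSplitEpi (f.left ∣_ U) := ⟨⟨⟨s, IsPullback.lift_fst _ _ _ _⟩⟩⟩
  exact isIso_of_mono_of_isSplitEpi _

/-- The affine points of `G` are the common zeros of the polynomials in `E`. -/
structure Model (G : Over (Spec (CommRingCat.of R))) (σ : Type) (E : Finset (MvPolynomial σ R)) where
  /-- coordinates of a point -/
  crd : ∀ (A : Type u) [CommRing A] [Algebra R A], (QuadGrp.specOver R A ⟶ G) → σ → A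
  zero : ∀ (A : Type u) [CommRing A] [Algebra R A] (y : QuadGrp.specOver R A ⟶ G),
    ∀ p ∈ E, MvPolynomial.aeval (crd A y) p = 0
  inj : ∀ (A : Type u) [CommRing A] [Algebra R A], Function.Injective (crd A)
  surj : ∀ (A : Type u) [CommRing A] [Algebra R A] (x : σ → A),
    (∀ p ∈ E, MvPolynomial.aeval x p = 0) → ∃ y, crd A y = x
  natural : ∀ (A A' : Type u) [CommRing A] [Algebra R A] [CommRing A'] [Algebra R A'] (φ : A →ₐ[R] A')
    (y : QuadGrp.specOver R A ⟶ G), crd A' (QuadGrp.specOverMap R φ ≫ y) = φ ∘ crd A y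

/-- Square-zero lifting of common zeros. -/
def Lifts {σ : Type} (E : Finset (MvPolynomial σ R)) : Prop :=
  ∀ (A : Type u) [CommRing A] [Algebra R A] (I : Ideal A), I ^ 2 = ⊥ → ∀ x : σ → A ⧸ I,
    (∀ p ∈ E, MvPolynomial.aeval x p = 0) →
      ∃ x' : σ → A, (∀ p ∈ E, MvPolynomial.aeval x' p = 0) ∧ Ideal.Quotient.mk I ∘ x' = x

lemma Model.aeval_mk {σ : Type} {E : Finset (MvPolynomial σ R)} (p : MvPolynomial σ R) :
    MvPolynomial.aeval (fun i => (Ideal.Quotient.mkₐ R (Ideal.span (E : Set (MvPolynomial σ R)))) (MvPolynomial.X i)) p =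
      Ideal.Quotient.mkₐ R (Ideal.span (E : Set (MvPolynomial σ R))) p := by
  exact (DFunLike.congr_fun (MvPolynomial.aeval_unique (Ideal.Quotient.mkₐ R (Ideal.span (E : Set (MvPolynomial σ R))))) p).symm

/-- The algebra cut out by finitely many polynomials is formally smooth when its points lift. -/
theorem formallySmooth_iff_lifts {σ : Type} (E : Finset (MvPolynomial σ R)) :
    Algebra.FormallySmooth R (MvPolynomial σ R ⧸ Ideal.span (E : Set (MvPolynomial σ R))) ↔ Lifts E := by
  rw [Algebra.FormallySmooth.iff_comp_surjective]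
  constructor
  · intro h A _ _ I hI x hx
    obtain ⟨g, hg⟩ := @h A _ _ I hI (Ideal.Quotient.liftₐ _ (MvPolynomial.aeval x) fun p hp =>
      (Ideal.span_le (I := RingHom.ker (MvPolynomial.aeval x))).2 hx hp)
    refine ⟨fun i => g (Ideal.Quotient.mkₐ R _ (MvPolynomial.X i)), fun p hp => ?_, funext fun i => ?_⟩
    · rw [← MvPolynomial.comp_aeval_apply _ g, Model.aeval_mk,
        show Ideal.Quotient.mkₐ R (Ideal.span (E : Set (MvPolynomial σ R))) p = 0 from
          Ideal.Quotient.eq_zero_iff_mem.2 (Ideal.subset_span hp), map_zero]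
    · exact (DFunLike.congr_fun hg _).trans (MvPolynomial.aeval_X _ _)
  · intro h A _ _ I hI g
    obtain ⟨x, hx, hxg⟩ := h A I hI (fun i => g (Ideal.Quotient.mkₐ R _ (MvPolynomial.X i))) fun p hp => by
      rw [← MvPolynomial.comp_aeval_apply _ g, Model.aeval_mk,
        show Ideal.Quotient.mkₐ R (Ideal.span (E : Set (MvPolynomial σ R))) p = 0 from
          Ideal.Quotient.eq_zero_iff_mem.2 (Ideal.subset_span hp), map_zero]
    refine ⟨Ideal.Quotient.liftₐ _ (MvPolynomial.aeval x) fun p hp =>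
      (Ideal.span_le (I := RingHom.ker (MvPolynomial.aeval x))).2 hx hp,
      Ideal.Quotient.algHom_ext _ (MvPolynomial.algHom_ext fun i => ?_)⟩
    exact (congrArg (Ideal.Quotient.mk I) (MvPolynomial.aeval_X x i)).trans (congrFun hxg i)

namespace Model

variable {σ : Type} {E : Finset (MvPolynomial σ R)} (D : Model G σ E)

/-- The coordinate ring. -/
abbrev Ring (_ : Model G σ E) : Type u :=
  MvPolynomial σ R ⧸ Ideal.span (E : Set (MvPolynomial σ R))

include D in
theorem exists_iso : ∃ f : QuadGrp.specOver R D.Ring ⟶ G, IsIso f.left := by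
  set π := Ideal.Quotient.mkₐ R (Ideal.span (E : Set (MvPolynomial σ R))) with hπ
  obtain ⟨y₀, hy₀⟩ := D.surj D.Ring (fun i => π (MvPolynomial.X i)) fun p hp => by
    rw [aeval_mk]
    exact Ideal.Quotient.eq_zero_iff_mem.2 (Ideal.subset_span hp)
  refine ⟨y₀, isIso_of_points y₀ fun A _ _ => ⟨fun ψ₁ ψ₂ h => ?_, fun y => ?_⟩⟩
  · have h' := congrArg (D.crd A) h
    rw [D.natural, D.natural, hy₀] at h'
    refine Ideal.Quotient.algHom_ext _ (MvPolynomial.algHom_ext fun i => ?_)
    exact congrFun h' i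
  · refine ⟨Ideal.Quotient.liftₐ _ (MvPolynomial.aeval (D.crd A y)) fun p hp => ?_, D.inj A ?_⟩
    · exact (Ideal.span_le (I := RingHom.ker (MvPolynomial.aeval (D.crd A y)))).2 (fun q hq => D.zero A y q hq) hp
    · rw [D.natural, hy₀]
      funext i
      exact MvPolynomial.aeval_X _ _

variable [Finite σ]

include D in
theorem smooth_iff : (Smooth G.hom ↔ Lifts E) ∧ IsAffineHom G.hom := by
  obtain ⟨f, hf⟩ := D.exists_iso
  haveI : Algebra.FinitePresentation R D.Ring := Algebra.FinitePresentation.quotient ⟨E, rfl⟩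
  have hG : G.hom = inv f.left ≫ Spec.map (CommRingCat.ofHom (algebraMap R D.Ring)) :=
    (IsIso.eq_inv_comp f.left).2 (Over.w f)
  refine ⟨?_, ?_⟩
  swap
  · rw [hG]
    exact MorphismProperty.comp_mem _ _ _ (inferInstanceAs (IsAffineHom (inv f.left)))
      (inferInstanceAs (IsAffineHom (Spec.map (CommRingCat.ofHom (algebraMap R D.Ring)))))
  have h1 : Smooth G.hom ↔ Algebra.FormallySmooth R D.Ring := by
    rw [hG, MorphismProperty.cancel_left_of_respectsIso (P := @Smooth),
      HasRingHomProperty.Spec_iff (P := @Smooth)]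
    change RingHom.Smooth (algebraMap R D.Ring) ↔ _
    rw [RingHom.smooth_algebraMap]
    exact ⟨fun h => h.formallySmooth, fun h => ⟨h, inferInstance⟩⟩
  rw [h1, formallySmooth_iff_lifts]

end Model

end Groth.Agent.QuadSchemeLib
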